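import Mathlib
import Cfsg.Agent.Lib.Perm.NoFixConj.Solvable
import Cfsg.Agent.S0205

/-!
A group acting on a finite abelian group so that all its nonidentity elements have the same fixed points `Z`
has no two prime divisors occurring as element orders modulo `Z`.
-/

set_option autoImplicit false
set_option linter.style.haveILetI false

namespace Cfsg.Agent.Solv.TwoSizeRegular

/-- All nonidentity elements of `N` have exactly `Z` as fixed points. -/
structure Fpf {A : Type*} [CommGroup A] {N : Type*} [Group N] (φ : N →* MulAut A) (Z : Subgroup A) : Prop where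
  fix : ∀ n, ∀ z ∈ Z, φ n z = z
  free : ∀ n, n ≠ 1 → ∀ a, φ n a = a → a ∈ Z

theorem mem_of_pow_mem_of_pp {H : Type*} [Group H] {K : Subgroup H} {q s : ℕ} (hq : q.Prime) (hs : s.Prime)
    (hqs : s ≠ q) {x : H} (hx : ∃ k, orderOf x = q ^ k) (h : x ^ s ∈ K) : x ∈ K := by
  obtain ⟨k, hk⟩ := hx
  have hco : s.Coprime (orderOf x) := hk ▸ ((Nat.coprime_primes hs hq).2 hqs).pow_right k
  obtain ⟨m, hm⟩ := exists_pow_eq_self_of_coprime hco
  exact hm ▸ pow_mem h m

variable {A : Type*} [CommGroup A] {N : Type*} [Group N] {φ : N →* MulAut A} {Z : Subgroup A}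

theorem Fpf.norm (hf : Fpf φ Z) {h : N} {m : ℕ} (h1 : h ≠ 1) (hm : h ^ m = 1) (a : A) :
    ∏ i ∈ Finset.range m, φ (h ^ i) a ∈ Z := by
  refine hf.free h h1 _ ?_
  rw [map_prod]
  have e : ∀ i, φ h (φ (h ^ i) a) = φ (h ^ (i + 1)) a := fun i => by
    rw [pow_succ', map_mul, MulAut.mul_apply]
  simp only [e]
  rcases m with _ | m
  · simp
  · rw [Finset.prod_range_succ, hm, Finset.prod_range_succ' (fun i => φ (h ^ i) a) m]
    simp

/-- Fixed modulo `Z` and of coprime order: fixed. -/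
theorem Fpf.coprime_fixed (hf : Fpf φ Z) {h : N} {a : A} (hco : (orderOf h).Coprime (orderOf a))
    (hz : φ h a * a⁻¹ ∈ Z) : φ h a = a := by
  set z := φ h a * a⁻¹ with hz_def
  have h1 : φ h a = z * a := by rw [hz_def, inv_mul_cancel_right]
  have hit : ∀ i : ℕ, φ (h ^ i) a = z ^ i * a := by
    intro i
    induction i with
    | zero => simp
    | succ i ih =>
      rw [pow_succ', map_mul, MulAut.mul_apply, ih, map_mul, hf.fix h _ (Z.pow_mem hz i), h1, ← mul_assoc,
        ← pow_succ]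
  have h2 : z ^ orderOf h = 1 := by
    have := hit (orderOf h)
    rw [pow_orderOf_eq_one, map_one, MulAut.one_apply] at this
    simpa using this.symm
  have h3 : z ^ orderOf a = 1 := by
    rw [hz_def, mul_pow, ← map_pow, inv_pow, pow_orderOf_eq_one, map_one, inv_one, mul_one]
  have h4 : z = 1 := by
    have := pow_gcd_eq_one.2 ⟨h2, h3⟩
    rwa [hco, pow_one] at this
  rw [h1, h4, one_mul]

/-- The double product over a family of cyclic subgroups of order `m`. -/
theorem Fpf.pow_mem (hf : Fpf φ Z) {q m : ℕ} (hm : 0 < m) (u : ℕ → N)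
    (hu : ∀ i < q, u i ≠ 1 ∧ u i ^ m = 1)
    (hd : ∀ j, 1 ≤ j → j < m → ∃ d b : N, d ≠ 1 ∧ d ^ q = 1 ∧ ∀ i < q, u i ^ j = d ^ i * b) (a : A) :
    a ^ q ∈ Z := by
  have h1 : ∏ i ∈ Finset.range q, ∏ j ∈ Finset.range m, φ (u i ^ j) a ∈ Z :=
    Z.prod_mem fun i hi => hf.norm (hu i (Finset.mem_range.1 hi)).1 (hu i (Finset.mem_range.1 hi)).2 a
  obtain ⟨m, rfl⟩ : ∃ k, m = k + 1 := ⟨m - 1, by omega⟩
  rw [Finset.prod_comm, Finset.prod_range_succ'] at h1
  simp only [pow_zero, map_one, MulAut.one_apply, Finset.prod_const, Finset.card_range] at h1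
  refine (Z.mul_mem_cancel_left (Z.prod_mem fun j hj => ?_)).1 h1
  obtain ⟨d, b, hd1, hdq, hdi⟩ := hd (j + 1) (by omega) (by have := Finset.mem_range.1 hj; omega)
  rw [Finset.prod_congr rfl fun i hi => by rw [hdi i (Finset.mem_range.1 hi), map_mul, MulAut.mul_apply]]
  exact hf.norm hd1 hdq _

theorem ne_one_of_notMem_zpowers {g h : N} (hh : h ∉ Subgroup.zpowers g) : h ≠ 1 :=
  fun e => hh (e ▸ one_mem _)

/-- Two independent commuting elements of the same prime order. -/
theorem Fpf.pow_mem_of_square (hf : Fpf φ Z) {q : ℕ} (hq : q.Prime) {g h : N} (hg : orderOf g = q)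
    (hh : orderOf h = q) (hc : Commute g h) (hne : h ∉ Subgroup.zpowers g) (a : A) : a ^ q ∈ Z := by
  haveI := Fact.mk hq
  refine hf.pow_mem hq.pos (fun i => g * h ^ i) (fun i hi => ⟨fun e => ?_, ?_⟩) (fun j hj1 hj2 => ?_) a
  · rcases eq_or_ne i 0 with rfl | hi0
    · rw [pow_zero, mul_one] at e
      rw [e, orderOf_one] at hg
      exact hq.one_lt.ne hg
    · have h1 : h ^ i ∈ Subgroup.zpowers g := by
        rw [mul_eq_one_iff_eq_inv'] at e
        rw [e]; exact inv_mem (Subgroup.mem_zpowers g)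
      have hco : i.Coprime (orderOf h) := by
        rw [hh]; exact (hq.coprime_iff_not_dvd.2 (Nat.not_dvd_of_pos_of_lt (Nat.pos_of_ne_zero hi0) hi)).symm
      obtain ⟨k, hk⟩ := exists_pow_eq_self_of_coprime hco
      exact hne (hk ▸ Subgroup.pow_mem _ h1 k)
  · rw [(hc.pow_right i).mul_pow, ← hg, pow_orderOf_eq_one, one_mul, ← pow_mul, mul_comm, pow_mul, hg, ← hh,
      pow_orderOf_eq_one, one_pow]
  · refine ⟨h ^ j, g ^ j, fun e => ?_, ?_, fun i _ => ?_⟩
    · have := orderOf_dvd_of_pow_eq_one e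
      rw [hh] at this
      exact Nat.not_dvd_of_pos_of_lt hj1 hj2 this
    · rw [← pow_mul, mul_comm, pow_mul, ← hh, pow_orderOf_eq_one, one_pow]
    · rw [(hc.pow_right i).mul_pow, ((hc.pow_right i).pow_pow j j).eq, ← pow_mul, ← pow_mul, mul_comm i j]

/-- An element of prime order `q` normalised, not centralised, by one of prime order. -/
theorem Fpf.pow_mem_of_frobenius (hf : Fpf φ Z) {q s : ℕ} (hq : q.Prime) (hs : s.Prime) {g u : N}
    (hg : orderOf g = q) (hu : orderOf u = s) (hn : u * g * u⁻¹ ∈ Subgroup.zpowers g) (hc : ¬ Commute u g)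
    (a : A) : a ^ q ∈ Z := by
  haveI := Fact.mk hq
  have hcj : ∀ j : ℕ, u ^ j * g * (u ^ j)⁻¹ ∈ Subgroup.zpowers g := by
    intro j
    induction j with
    | zero => simp
    | succ j ih =>
      obtain ⟨l, hl⟩ := ih
      simp only at hl
      have e : u ^ (j + 1) * g * (u ^ (j + 1))⁻¹ = (u * g * u⁻¹) ^ l := by
        rw [conj_zpow, hl, pow_succ']; group
      rw [e]
      exact zpow_mem hn l
  refine hf.pow_mem hs.pos (fun i => g ^ i * u * (g ^ i)⁻¹) (fun i _ => ⟨fun e => ?_, ?_⟩)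
    (fun j hj1 hj2 => ?_) a
  · rw [mul_inv_eq_one, mul_eq_left] at e
    rw [e, orderOf_one] at hu
    exact hs.one_lt.ne hu
  · rw [conj_pow, ← hu, pow_orderOf_eq_one, mul_one, mul_inv_cancel]
  · obtain ⟨l, hl⟩ := hcj j
    simp only at hl
    refine ⟨g * (u ^ j * g * (u ^ j)⁻¹)⁻¹, u ^ j, fun e => hc ?_, ?_, fun i _ => ?_⟩
    · rw [mul_inv_eq_one, eq_mul_inv_iff_mul_eq] at e
      have hcj' : Commute (u ^ j) g := e.symm
      have hco : j.Coprime (orderOf u) := by
        rw [hu]; exact (hs.coprime_iff_not_dvd.2 (Nat.not_dvd_of_pos_of_lt hj1 hj2)).symm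
      obtain ⟨k, hk⟩ := exists_pow_eq_self_of_coprime hco
      exact hk ▸ hcj'.pow_left k
    · rw [← hl, (((Commute.refl g).zpow_right l).inv_right).mul_pow, inv_pow, ← zpow_natCast (g ^ l) q,
        ← zpow_mul, mul_comm, zpow_mul, zpow_natCast, ← hg, pow_orderOf_eq_one, one_zpow, inv_one, one_mul]
    · rw [conj_pow, ← hl, (((Commute.refl g).zpow_right l).inv_right).mul_pow, inv_pow, hl, conj_pow]
      group

/-- An element of prime order does not commute with one of another prime order. -/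
theorem Fpf.not_commute [Finite A] (hf : Fpf φ Z) {q s : ℕ} (hq : q.Prime) (hs : s.Prime) (hqs : q ≠ s)
    {g w : N} (hg : orderOf g = q) (hw : orderOf w = s) (hc : Commute g w)
    (hx : ∃ x : A, (∃ k, orderOf x = q ^ k) ∧ x ∉ Z) : False := by
  haveI := Fact.mk hq
  obtain ⟨x, ⟨k, hk⟩, hxZ⟩ := hx
  have hg1 : g ≠ 1 := fun e => hq.one_lt.ne (by rw [← hg, e, orderOf_one])
  have hw1 : w ≠ 1 := fun e => hs.one_lt.ne (by rw [← hw, e, orderOf_one])
  let f : A →* A :=
    { toFun := fun a => φ w a * a⁻¹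
      map_one' := by simp
      map_mul' := fun a b => by rw [map_mul, mul_inv]; exact mul_mul_mul_comm _ _ _ _ }
  let V : Subgroup A := ((Subgroup.zpowers x) ⊔
    (⨆ i : ℕ, Subgroup.zpowers (φ (g ^ i) x))).map f
  set W := Subgroup.zpowers x ⊔ (⨆ i : ℕ, Subgroup.zpowers (φ (g ^ i) x))
  have hWp : ∀ a ∈ W, a ^ q ^ k = 1 := by
    have : W ≤ (powMonoidHom (q ^ k) : A →* A).ker := sup_le (Subgroup.zpowers_le.2 (by
      show x ^ q ^ k = 1
      rw [← hk, pow_orderOf_eq_one])) (iSup_le fun i => Subgroup.zpowers_le.2 (by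
      show φ (g ^ i) x ^ q ^ k = 1
      rw [← map_pow, ← hk, pow_orderOf_eq_one, map_one]))
    exact fun a ha => this ha
  have hWg : ∀ a ∈ W, φ g a ∈ W := by
    have : W ≤ W.comap (φ g).toMonoidHom := by
      refine sup_le (Subgroup.zpowers_le.2 ?_) (iSup_le fun i => Subgroup.zpowers_le.2 ?_)
      · exact Subgroup.mem_sup_right (Subgroup.mem_iSup_of_mem 1 (by simp))
      · refine Subgroup.mem_sup_right (Subgroup.mem_iSup_of_mem (i + 1) ?_)
        show φ g (φ (g ^ i) x) ∈ _
        rw [← MulAut.mul_apply, ← map_mul, ← pow_succ']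
        exact Subgroup.mem_zpowers _
    exact fun a ha => this ha
  let P := W.map f
  have hPp : IsPGroup q P := by
    rintro ⟨_, a, ha, rfl⟩
    exact ⟨k, Subtype.ext (by show f a ^ q ^ k = 1; rw [← map_pow, hWp a ha, map_one])⟩
  have hPZ : ∀ a ∈ W, f a ∈ Z → f a = 1 := fun a ha hz => by
    have hco : (orderOf w).Coprime (orderOf a) := by
      obtain ⟨j, -, hj⟩ := (Nat.dvd_prime_pow hq).1 (orderOf_dvd_of_pow_eq_one (hWp a ha))
      rw [hw, hj]
      exact ((Nat.coprime_primes hs hq).2 hqs.symm).pow_right j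
    show φ w a * a⁻¹ = 1
    rw [hf.coprime_fixed hco hz, mul_inv_cancel]
  have hP1 : P ≠ ⊥ := fun e => hxZ (hf.free w hw1 x (mul_inv_eq_one.1
    (Subgroup.mem_bot.1 (e ▸ ⟨x, Subgroup.mem_sup_left (Subgroup.mem_zpowers x), rfl⟩ : f x ∈ (⊥ : Subgroup A)))))
  have hPg : ∀ v ∈ P, φ g v ∈ P := by
    rintro _ ⟨a, ha, rfl⟩
    refine ⟨φ g a, hWg a ha, ?_⟩
    show φ w (φ g a) * (φ g a)⁻¹ = φ g (φ w a * a⁻¹)
    rw [map_mul, map_inv, ← MulAut.mul_apply, ← MulAut.mul_apply, ← map_mul, ← map_mul, hc.eq]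
  have hPgn : ∀ (n : ℕ) v, v ∈ P → φ (g ^ n) v ∈ P := by
    intro n
    induction n with
    | zero => simp
    | succ n ih =>
      intro v hv
      rw [pow_succ', map_mul, MulAut.mul_apply]
      exact hPg _ (ih v hv)
  let S : Subgroup N := Subgroup.zpowers g
  have hSP : ∀ n ∈ S, ∀ v ∈ P, φ n v ∈ P := by
    rintro n hn v hv
    haveI hfin : IsOfFinOrder g := orderOf_pos_iff.1 (hg ▸ hq.pos)
    obtain ⟨i, rfl⟩ := hfin.mem_powers_iff_mem_zpowers.2 hn
    exact hPgn i v hv
  letI : MulAction S P :=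
    { smul := fun n v => ⟨φ (n : N) v, hSP n n.2 v v.2⟩
      one_smul := fun v => Subtype.ext (by show φ ((1 : S) : N) v = v; simp)
      mul_smul := fun m n v => Subtype.ext (by
        show φ ((m * n : S) : N) v = φ (m : N) (φ (n : N) v)
        rw [Subgroup.coe_mul, map_mul, MulAut.mul_apply]) }
  have hSp : IsPGroup q S := IsPGroup.of_card (n := 1) (by rw [Nat.card_zpowers, hg, pow_one])
  obtain ⟨m, hm⟩ := IsPGroup.iff_card.1 hPp
  have hm0 : m ≠ 0 := fun e => hP1 (Subgroup.eq_bot_of_card_eq P (by rw [hm, e, pow_zero]))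
  have h1 : (1 : P) ∈ MulAction.fixedPoints S P := fun n => Subtype.ext (by
    show φ (n : N) ((1 : P) : A) = 1
    simp)
  obtain ⟨v, hv, hv1⟩ := hSp.exists_fixed_point_of_prime_dvd_card_of_fixed_point (α := P)
    (hm ▸ dvd_pow_self q hm0) h1
  obtain ⟨a, ha, hav⟩ := v.2
  have hfix : φ g (v : A) = v := congrArg Subtype.val (hv ⟨g, Subgroup.mem_zpowers g⟩)
  exact hv1 (Subtype.ext (hav.symm.trans (hPZ a ha (hav ▸ hf.free g hg1 _ hfix))).symm)

/-- The main statement. -/
theorem Fpf.false_of_two [Finite A] [Finite N] (hf : Fpf φ Z) {q r : ℕ} (hq : q.Prime) (hr : r.Prime)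
    (hqr : q ≠ r) (hqN : q ∣ Nat.card N) (hrN : r ∣ Nat.card N)
    (hx : ∃ x : A, (∃ k, orderOf x = q ^ k) ∧ x ∉ Z) (hy : ∃ y : A, (∃ k, orderOf y = r ^ k) ∧ y ∉ Z) :
    False := by
  classical
  have hnot : ∀ s : ℕ, s.Prime → ¬ ∀ a, a ^ s ∈ Z := by
    intro s hs h
    rcases eq_or_ne s q with rfl | hsq
    · obtain ⟨y, hyo, hyZ⟩ := hy
      exact hyZ (mem_of_pow_mem_of_pp hr hs hqr hyo (h y))
    · obtain ⟨x, hxo, hxZ⟩ := hx
      exact hxZ (mem_of_pow_mem_of_pp hq hs hsq hxo (h x))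
  -- no prime-order element normalises another one
  have frob : ∀ {s t : ℕ}, s.Prime → t.Prime → ∀ {g u : N}, orderOf g = s → orderOf u = t →
      u * g * u⁻¹ ∈ Subgroup.zpowers g → Commute u g := by
    intro s t hs ht g u hg hu hn
    by_contra hc
    exact hnot s hs (hf.pow_mem_of_frobenius hs ht hg hu hn hc)
  have sq : ∀ {s : ℕ}, s.Prime → ∀ {g h : N}, orderOf g = s → orderOf h = s → Commute g h →
      h ∈ Subgroup.zpowers g := by
    intro s hs g h hg hh hc
    by_contra hne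
    exact hnot s hs (hf.pow_mem_of_square hs hg hh hc hne)
  -- the order of `N` is odd
  have hodd : Odd (Nat.card N) := by
    rw [← Nat.not_even_iff_odd]
    intro he
    haveI := Fact.mk Nat.prime_two
    obtain ⟨t, ht⟩ := exists_prime_orderOf_dvd_card' (p := 2) (even_iff_two_dvd.1 he)
    have ht2 : t * t = 1 := by rw [← pow_two, ← ht, pow_orderOf_eq_one]
    have htinv : t⁻¹ = t := inv_eq_of_mul_eq_one_right ht2
    have huniq : ∀ t' : N, orderOf t' = 2 → t' = t := by
      intro t' ht'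
      have ht'2 : t' * t' = 1 := by rw [← pow_two, ← ht', pow_orderOf_eq_one]
      have ht'inv : t'⁻¹ = t' := inv_eq_of_mul_eq_one_right ht'2
      set d := t * t' with hd_def
      have hdinv : d⁻¹ = t' * t := by rw [hd_def, mul_inv_rev, htinv, ht'inv]
      have htd : t * d * t⁻¹ = d⁻¹ := by rw [hdinv, hd_def, ← mul_assoc, ht2, one_mul, htinv]
      by_contra hne
      have hd1 : orderOf d ≠ 1 := fun e => hne (by
        rw [orderOf_eq_one_iff, hd_def, mul_eq_one_iff_eq_inv'] at e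
        rw [e, htinv])
      obtain ⟨s, hs, hsd⟩ := Nat.exists_prime_and_dvd hd1
      set e := d ^ (orderOf d / s) with he_def
      have heo : orderOf e = s := orderOf_pow_orderOf_div (orderOf_pos d).ne' hsd
      have hte : t * e * t⁻¹ = e⁻¹ := by rw [he_def, ← conj_pow, htd, inv_pow]
      have hce : Commute t e := frob hs Nat.prime_two heo ht (hte ▸ inv_mem (Subgroup.mem_zpowers e))
      have he2 : e * e = 1 := by
        have h2 : e⁻¹ = e := by rw [← hte, hce.eq, mul_inv_cancel_right]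
        nth_rw 1 [← h2]
        exact inv_mul_cancel e
      have hs2 : s = 2 := ((Nat.prime_dvd_prime_iff_eq hs Nat.prime_two).1
        (heo ▸ orderOf_dvd_of_pow_eq_one (by rwa [pow_two])))
      subst hs2
      obtain ⟨i, hi⟩ := sq Nat.prime_two ht heo hce
      have hei : e = t := by
        rcases Int.even_or_odd i with ⟨l, rfl⟩ | ⟨l, rfl⟩
        · simp only [← two_mul, zpow_mul, zpow_two, ht2, one_zpow] at hi
          rw [← hi, orderOf_one] at heo
          omega
        · simp only [zpow_add, zpow_mul, zpow_two, ht2, one_zpow, zpow_one, one_mul] at hi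
          exact hi.symm
      have htd' : Commute t d := hei ▸ (Commute.refl d).pow_left (orderOf d / 2)
      have hd2 : d * d = 1 := by
        have h2 : d⁻¹ = d := by rw [← htd, htd'.eq, mul_inv_cancel_right]
        nth_rw 1 [← h2]
        exact inv_mul_cancel d
      have hod : orderOf d = 2 := ((Nat.prime_dvd_prime_iff_eq Nat.prime_two Nat.prime_two).1 dvd_rfl).symm ▸
        orderOf_eq_prime (by rwa [pow_two]) (fun e => hd1 (orderOf_eq_one_iff.2 e))
      have : e = d := by rw [he_def, hod, Nat.div_self two_pos, pow_one]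
      rw [hei, hd_def] at this
      rw [mul_eq_left.1 this.symm, orderOf_one] at ht'
      omega
    have hcent : ∀ g : N, Commute g t := by
      intro g
      have := huniq (g * t * g⁻¹) (by rw [orderOf_eq_iff two_pos] at ht ⊢; exact
        ⟨by rw [conj_pow, ht.1, mul_one, mul_inv_cancel], fun m h1 h2 e => ht.2 m h1 h2 (by
          rwa [conj_pow, mul_inv_eq_one, mul_eq_left] at e)⟩)
      exact mul_inv_eq_iff_eq_mul.1 this
    haveI := Fact.mk hq
    haveI := Fact.mk hr
    rcases eq_or_ne q 2 with rfl | hq2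
    · obtain ⟨g, hg⟩ := exists_prime_orderOf_dvd_card' (p := r) hrN
      exact hf.not_commute hr Nat.prime_two hqr.symm hg ht (hcent g) hy
    · obtain ⟨g, hg⟩ := exists_prime_orderOf_dvd_card' (p := q) hqN
      exact hf.not_commute hq Nat.prime_two hq2 hg ht (hcent g) hx
  -- a normal subgroup of prime order
  haveI := Cfsg.Agent.S0205.result hodd
  haveI : Nontrivial N := Finite.one_lt_card_iff_nontrivial.1
    (lt_of_lt_of_le hq.one_lt (Nat.le_of_dvd Nat.card_pos hqN))
  obtain ⟨M, hMn, hM1, hMc⟩ := Cfsg.Agent.Perm.NoFixConj.exists_abelian_normal_ne_bot (G := N) inferInstance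
  obtain ⟨s, hs, hsM⟩ := Nat.exists_prime_and_dvd (n := Nat.card M)
    (fun e => hM1 (Subgroup.eq_bot_of_card_eq M e))
  haveI := Fact.mk hs
  obtain ⟨e0, he0⟩ := exists_prime_orderOf_dvd_card' (p := s) hsM
  set e := (e0 : N)
  have heo : orderOf e = s := by rw [Subgroup.orderOf_coe, he0]
  have hnorm : ∀ u : N, u * e * u⁻¹ ∈ Subgroup.zpowers e := by
    intro u
    refine sq hs heo ?_ (hMc _ e0.2 _ (hMn.conj_mem _ e0.2 u))
    rw [← heo]
    exact orderOf_injective (MulAut.conj u).toMonoidHom (MulAut.conj u).injective e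
  rcases eq_or_ne s q with rfl | hsq
  · haveI := Fact.mk hr
    obtain ⟨g, hg⟩ := exists_prime_orderOf_dvd_card' (p := r) hrN
    exact hf.not_commute hr hs hqr.symm hg heo (frob hs hr heo hg (hnorm g)) hy
  · haveI := Fact.mk hq
    obtain ⟨g, hg⟩ := exists_prime_orderOf_dvd_card' (p := q) hqN
    exact hf.not_commute hq hs hsq.symm hg heo (frob hs hq heo hg (hnorm g)) hx

end Cfsg.Agent.Solv.TwoSizeRegular
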