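import Mathlib
import Cfsg.Agent.Lib.Fusion.Basic
import Cfsg.Agent.Lib.Solv.Cores

/-!
All noncentral elements of order prime to `p` have centralizers of one order: basic consequences.
-/

set_option autoImplicit false
set_option linter.style.haveILetI false
set_option linter.unusedSectionVars false

namespace Cfsg.Agent.Solv.TwoSizeRegular

open Cfsg.Agent.Fusion

variable {G : Type*} [Group G]

/-- The order is prime to `p`. -/
def Reg (p : ℕ) (x : G) : Prop := (orderOf x).Coprime p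

/-- Noncentral of order prime to `p`. -/
def NC (p : ℕ) (x : G) : Prop := Reg p x ∧ x ∉ Subgroup.center G

/-- The centralizer of an element. -/
abbrev C1 (x : G) : Subgroup G := Subgroup.centralizer ({x} : Set G)

/-- Of `q`-power order. -/
def PP (q : ℕ) (x : G) : Prop := ∃ k, orderOf x = q ^ k

theorem mem_C1 {x y : G} : y ∈ C1 x ↔ Commute y x := Subgroup.mem_centralizer_singleton_iff

theorem center_le_C1 (x : G) : Subgroup.center G ≤ C1 x := Subgroup.center_le_centralizer _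

theorem self_mem_C1 (x : G) : x ∈ C1 x := mem_C1.2 (Commute.refl x)

theorem reg_one {p : ℕ} : Reg p (1 : G) := by simp [Reg]

theorem Reg.inv {p : ℕ} {x : G} (h : Reg p x) : Reg p x⁻¹ := by rwa [Reg, orderOf_inv]

theorem Reg.of_dvd {p : ℕ} {x y : G} (h : Reg p x) (hd : orderOf y ∣ orderOf x) : Reg p y :=
  h.coprime_dvd_left hd

theorem Reg.of_mem_zpowers {p : ℕ} {x y : G} (h : Reg p x) (hy : y ∈ Subgroup.zpowers x) : Reg p y :=
  h.of_dvd (orderOf_dvd_of_mem_zpowers hy)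

theorem Reg.mul {p : ℕ} {x y : G} (hx : Reg p x) (hy : Reg p y) (hc : Commute x y) : Reg p (x * y) :=
  (Nat.Coprime.mul_left hx hy).coprime_dvd_left (hc.orderOf_mul_dvd_lcm.trans (Nat.lcm_dvd_mul _ _))

theorem pp_reg {p q : ℕ} (hp : p.Prime) (hq : q.Prime) (hqp : q ≠ p) {x : G} (h : PP q x) : Reg p x := by
  obtain ⟨k, hk⟩ := h
  rw [Reg, hk]
  exact ((Nat.coprime_primes hq hp).2 hqp).pow_left k

theorem pp_one {q : ℕ} : PP q (1 : G) := ⟨0, by simp⟩

theorem PP.inv {q : ℕ} {x : G} (h : PP q x) : PP q x⁻¹ := by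
  obtain ⟨k, hk⟩ := h; exact ⟨k, by rw [orderOf_inv, hk]⟩

theorem PP.mul {q : ℕ} (hq : q.Prime) {x y : G} (hx : PP q x) (hy : PP q y) (hc : Commute x y) :
    PP q (x * y) := by
  obtain ⟨a, ha⟩ := hx
  obtain ⟨b, hb⟩ := hy
  have h := hc.orderOf_mul_dvd_lcm.trans (Nat.lcm_dvd_mul _ _)
  rw [ha, hb, ← pow_add] at h
  obtain ⟨k, -, hk⟩ := (Nat.dvd_prime_pow hq).1 h
  exact ⟨k, hk⟩

theorem pp_of_isPGroup [Finite G] {q : ℕ} [hq : Fact q.Prime] {H : Subgroup G} (h : IsPGroup q H) {x : G}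
    (hx : x ∈ H) : PP q x := by
  obtain ⟨k, hk⟩ := h ⟨x, hx⟩
  obtain ⟨j, -, hj⟩ := (Nat.dvd_prime_pow hq.out).1
    (orderOf_dvd_of_pow_eq_one (show x ^ q ^ k = 1 from congrArg Subtype.val hk))
  exact ⟨j, hj⟩

/-- A subgroup contains an element as soon as it contains its parts of prime power order. -/
theorem mem_of_pp [Finite G] {H : Subgroup G} {w : G}
    (h : ∀ t : ℕ, t.Prime → ∀ y ∈ Subgroup.zpowers w, PP t y → y ∈ H) : w ∈ H := by
  set K := H.subgroupOf (Subgroup.zpowers w)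
  have hK : Nat.card (Subgroup.zpowers w) ∣ Nat.card K := by
    rw [Nat.card_zpowers]
    refine (Nat.dvd_iff_prime_pow_dvd_dvd _ _).2 fun r k hr hd => ?_
    have hyo : orderOf (w ^ (orderOf w / r ^ k)) = r ^ k := orderOf_pow_orderOf_div (orderOf_pos w).ne' hd
    have hy : w ^ (orderOf w / r ^ k) ∈ Subgroup.zpowers w := Subgroup.npow_mem_zpowers w _
    have := orderOf_dvd_natCard (⟨⟨_, hy⟩, h r hr _ hy ⟨k, hyo⟩⟩ : K)
    rwa [← Subgroup.orderOf_coe, ← Subgroup.orderOf_coe, hyo] at this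
  have hKtop : K = ⊤ := Subgroup.eq_top_of_card_eq K (le_antisymm (Subgroup.card_le_card_group K)
    (Nat.le_of_dvd Nat.card_pos hK))
  exact (Subgroup.subgroupOf_eq_top.1 hKtop) (Subgroup.mem_zpowers w)

/-- Conjugation that moves an element by a central element of coprime order is trivial. -/
theorem commute_of_conj_mul {g y w : G} (hw : w ∈ Subgroup.center G) (h : g * y * g⁻¹ = y * w)
    (hco : (orderOf g).Coprime (orderOf y)) : Commute g y := by
  have hit : ∀ n : ℕ, g ^ n * y * (g ^ n)⁻¹ = y * w ^ n := by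
    intro n
    induction n with
    | zero => simp
    | succ n ih =>
      calc g ^ (n + 1) * y * (g ^ (n + 1))⁻¹ = g * (g ^ n * y * (g ^ n)⁻¹) * g⁻¹ := by rw [pow_succ']; group
        _ = g * (y * w ^ n) * g⁻¹ := by rw [ih]
        _ = (g * y * g⁻¹) * (g * w ^ n * g⁻¹) := by group
        _ = y * w * w ^ n := by
          rw [h, Subgroup.mem_center_iff.1 ((Subgroup.center G).pow_mem hw n) g, mul_inv_cancel_right]
        _ = y * w ^ (n + 1) := by rw [pow_succ', mul_assoc]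
  have h2 : w ^ orderOf g = 1 := by
    have := hit (orderOf g)
    rw [pow_orderOf_eq_one, inv_one, one_mul, mul_one] at this
    exact mul_eq_left.1 this.symm
  have h3 : w ^ orderOf y = 1 := by
    have hc : Commute y w := Subgroup.mem_center_iff.1 hw y
    have := congrArg (· ^ orderOf y) h
    simp only [conj_pow, hc.mul_pow, pow_orderOf_eq_one, mul_one, mul_inv_cancel, one_mul] at this
    exact this.symm
  have h4 : w = 1 := by
    have := pow_gcd_eq_one.2 ⟨h2, h3⟩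
    rwa [hco, pow_one] at this
  rw [h4, mul_one] at h
  exact mul_inv_eq_iff_eq_mul.1 h

theorem card_mul_rel [Finite G] {H K : Subgroup G} (h : H ≤ K) :
    Nat.card H * H.relIndex K = Nat.card K := by
  rw [← Subgroup.relIndex_bot_left H, ← Subgroup.relIndex_bot_left K]
  exact Subgroup.relIndex_mul_relIndex _ _ _ bot_le h

theorem card_sylIn [Finite G] {r : ℕ} [Fact r.Prime] {T H : Subgroup G} (h : SylIn r T H) :
    Nat.card T = r ^ (Nat.card H).factorization r := by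
  obtain ⟨P, hP⟩ := h.exists_sylow_subgroupOf
  rw [← P.card_eq_multiplicity, hP]
  exact (Nat.card_congr (Subgroup.subgroupOfEquivOfLe h.le).toEquiv).symm

theorem le_fact_of_isPGroup [Finite G] {r k : ℕ} [hr : Fact r.Prime] {S H : Subgroup G} (hk : Nat.card S = r ^ k)
    (hd : Nat.card S ∣ Nat.card H) : k ≤ (Nat.card H).factorization r :=
  (hr.out.pow_dvd_iff_le_factorization Nat.card_pos.ne').1 (hk ▸ hd)

theorem card_le_ppart [Finite G] {r : ℕ} [hr : Fact r.Prime] {S H : Subgroup G} (hS : IsPGroup r S) (hle : S ≤ H) :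
    Nat.card S ≤ r ^ (Nat.card H).factorization r := by
  obtain ⟨k, hk⟩ := IsPGroup.iff_card.1 hS
  rw [hk]
  exact Nat.pow_le_pow_right hr.out.pos (le_fact_of_isPGroup hk (Subgroup.card_dvd_of_le hle))

theorem C1_conj (x g : G) : C1 (g * x * g⁻¹) = cj (C1 x) g := by
  ext c
  rw [mem_cj, mem_C1, mem_C1]
  refine ⟨fun h => ?_, fun h => ?_⟩
  · show g⁻¹ * c * g * x = x * (g⁻¹ * c * g)
    have := congrArg (fun t => g⁻¹ * t * g) h.eq
    simpa [mul_assoc] using this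
  · show c * (g * x * g⁻¹) = g * x * g⁻¹ * c
    have := congrArg (fun t => g * t * g⁻¹) h.eq
    simpa [mul_assoc] using this

theorem orderOf_conj (x g : G) : orderOf (g * x * g⁻¹) = orderOf x :=
  orderOf_injective (MulAut.conj g).toMonoidHom (MulAut.conj g).injective x

theorem NC.conj {p : ℕ} {x : G} (h : NC p x) (g : G) : NC p (g * x * g⁻¹) := by
  refine ⟨by rw [Reg, orderOf_conj]; exact h.1, fun hc => h.2 ?_⟩
  have := (inferInstance : (Subgroup.center G).Normal).conj_mem _ hc g⁻¹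
  simpa [mul_assoc] using this

theorem PP.conj {q : ℕ} {x : G} (h : PP q x) (g : G) : PP q (g * x * g⁻¹) := by
  obtain ⟨k, hk⟩ := h; exact ⟨k, by rw [orderOf_conj, hk]⟩

theorem C1_mul_central {x z : G} (hz : z ∈ Subgroup.center G) : C1 (x * z) = C1 x := by
  ext c
  rw [mem_C1, mem_C1]
  have hc : Commute c z := Subgroup.mem_center_iff.1 hz c
  exact ⟨fun h => by simpa using h.mul_right hc.inv_right, fun h => h.mul_right hc⟩

/-- Noncentral `p`-regular elements have centralizers of one order. -/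
structure Hyp (G : Type*) [Group G] (p : ℕ) : Prop where
  hp : p.Prime
  size : ∀ x y : G, NC p x → NC p y → Nat.card (C1 x) = Nat.card (C1 y)
  ex : ∃ x : G, NC p x

/-- A prime `q ≠ p` with a noncentral `q`-element. -/
def InPi (G : Type*) [Group G] (p q : ℕ) : Prop := q.Prime ∧ q ≠ p ∧ ∃ x : G, NC p x ∧ PP q x

/-- At least two such primes. -/
def Two (G : Type*) [Group G] (p : ℕ) : Prop := ∃ q r, InPi G p q ∧ InPi G p r ∧ q ≠ r

variable [Finite G] {p : ℕ}

theorem exists_pp_part {w : G} (hw : NC p w) :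
    ∃ q, InPi G p q ∧ ∃ y, NC p y ∧ PP q y ∧ y ∈ Subgroup.zpowers w := by
  by_contra hno
  refine hw.2 (mem_of_pp fun t ht y hy hty => ?_)
  by_contra hc
  have hreg := hw.1.of_mem_zpowers hy
  refine hno ⟨t, ⟨ht, fun e => hc ?_, y, ⟨hreg, hc⟩, hty⟩, y, ⟨hreg, hc⟩, hty, hy⟩
  obtain ⟨k, hk⟩ := hty
  rcases k with _ | k
  · rw [pow_zero, orderOf_eq_one_iff] at hk
    rw [hk]; exact one_mem _
  · exfalso
    rw [Reg, hk, e, Nat.coprime_pow_left_iff k.succ_pos, Nat.coprime_self] at hreg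
    exact ht.one_lt.ne' (e.trans hreg)

theorem InPi.other (h2 : Two G p) (q : ℕ) : ∃ r, InPi G p r ∧ r ≠ q := by
  obtain ⟨a, b, ha, hb, hab⟩ := h2
  rcases eq_or_ne a q with rfl | h
  · exact ⟨b, hb, hab.symm⟩
  · exact ⟨a, ha, h⟩

variable (H : Hyp G p)
include H

theorem Hyp.key {x y : G} (hx : NC p x) (hy : NC p y) (h : C1 x ≤ C1 y) : C1 x = C1 y :=
  Subgroup.eq_of_le_of_card_ge h (H.size x y hx hy).ge

theorem Hyp.eq_part {x y : G} (hx : NC p x) (hy : NC p y) (h : y ∈ Subgroup.zpowers x) : C1 x = C1 y := by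
  refine H.key hx hy fun c hc => ?_
  obtain ⟨i, rfl⟩ := h
  exact mem_C1.2 ((mem_C1.1 hc).zpow_right i)

theorem Hyp.le_of_coprime {x y : G} (hx : NC p x) (hy : Reg p y) (hc : Commute x y)
    (hco : (orderOf x).Coprime (orderOf y)) : C1 x ≤ C1 y := by
  have e : (x * y) ^ orderOf y = x ^ orderOf y := by rw [hc.mul_pow, pow_orderOf_eq_one, mul_one]
  obtain ⟨m, hm⟩ := exists_pow_eq_self_of_coprime hco.symm
  have hmem : x ∈ Subgroup.zpowers (x * y) := by
    have := Subgroup.npow_mem_zpowers (x * y) (orderOf y * m); rwa [pow_mul, e, hm] at this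
  have hxy : NC p (x * y) := ⟨hx.1.mul hy hc, fun h => hx.2 (Subgroup.zpowers_le.2 h hmem)⟩
  rw [← H.eq_part hxy hx hmem]
  intro c hc'
  obtain ⟨i, hi⟩ := hmem
  have h1 : Commute c x := hi ▸ (mem_C1.1 hc').zpow_right i
  refine mem_C1.2 ?_
  simpa using h1.inv_right.mul_right (mem_C1.1 hc')

theorem Hyp.central_of_not_pi {q : ℕ} (hq : q.Prime) (hqp : q ≠ p) (h : ¬ InPi G p q) {x : G} (hx : PP q x) :
    x ∈ Subgroup.center G := by
  by_contra hc
  exact h ⟨hq, hqp, x, ⟨pp_reg H.hp hq hqp hx, hc⟩, hx⟩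

theorem Hyp.exists_pp_mem {x : G} (hx : NC p x) {r : ℕ} (hr : InPi G p r) :
    ∃ y ∈ C1 x, NC p y ∧ PP r y := by
  obtain ⟨hrp, hrne, y0, hy0, hy0r⟩ := hr
  haveI := Fact.mk hrp
  by_contra hno
  obtain ⟨T, hT⟩ := exists_sylIn (p := r) (C1 x)
  have hTZ : T ≤ Subgroup.center G := fun t ht => by
    by_contra hc
    have := pp_of_isPGroup hT.isPGroup ht
    exact hno ⟨t, hT.le ht, ⟨pp_reg H.hp hrp hrne this, hc⟩, this⟩
  haveI hTn : T.Normal := ⟨fun n hn g => by
    rwa [Subgroup.mem_center_iff.1 (hTZ hn) g, mul_inv_cancel_right]⟩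
  obtain ⟨k, hk⟩ := hy0r
  have hgr : IsPGroup r (T ⊔ Subgroup.zpowers y0 : Subgroup G) :=
    hT.isPGroup.to_sup_of_normal_left (IsPGroup.of_card (n := k) (by rw [Nat.card_zpowers, hk]))
  have hle : T ⊔ Subgroup.zpowers y0 ≤ C1 y0 :=
    sup_le (hTZ.trans (center_le_C1 y0)) (Subgroup.zpowers_le.2 (self_mem_C1 y0))
  have h1 := card_le_ppart hgr hle
  rw [H.size y0 x hy0 hx, ← card_sylIn hT] at h1
  have h2 := Subgroup.eq_of_le_of_card_ge le_sup_left h1
  exact hy0.2 (hTZ (h2.ge (Subgroup.mem_sup_right (Subgroup.mem_zpowers y0))))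

variable (h2 : Two G p)
include h2

theorem Hyp.eq_of_pp {q s : ℕ} (hq : InPi G p q) (hs : InPi G p s) {x y : G} (hx : NC p x) (hxq : PP q x)
    (hy : NC p y) (hys : PP s y) (hc : Commute x y) : C1 x = C1 y := by
  have main : ∀ {a b : ℕ}, InPi G p a → InPi G p b → a ≠ b → ∀ {u v : G}, NC p u → PP a u → NC p v → PP b v →
      Commute u v → C1 u = C1 v := by
    intro a b ha hb hab u v hu hua hv hvb huv
    refine H.key hu hv (H.le_of_coprime hu hv.1 huv ?_)
    obtain ⟨i, hi⟩ := hua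
    obtain ⟨j, hj⟩ := hvb
    rw [hi, hj]
    exact Nat.Coprime.pow _ _ ((Nat.coprime_primes ha.1 hb.1).2 hab)
  rcases ne_or_eq q s with h | rfl
  · exact main hq hs h hx hxq hy hys hc
  · obtain ⟨r, hr, hrq⟩ := InPi.other h2 q
    obtain ⟨z, hz, hznc, hzr⟩ := H.exists_pp_mem hx hr
    have e1 := main hq hr hrq.symm hx hxq hznc hzr (mem_C1.1 hz).symm
    have hyz : Commute y z := mem_C1.1 (e1 ▸ mem_C1.2 hc.symm)
    exact e1.trans (main hr hs hrq hznc hzr hy hys hyz.symm)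

/-- Commuting noncentral elements have the same centralizer. -/
theorem Hyp.eq_of_comm {x y : G} (hx : NC p x) (hy : NC p y) (hc : Commute x y) : C1 x = C1 y := by
  obtain ⟨q, hq, x', hx', hxq, hxm⟩ := exists_pp_part hx
  obtain ⟨s, hs, y', hy', hys, hym⟩ := exists_pp_part hy
  obtain ⟨i, rfl⟩ := hxm
  obtain ⟨j, rfl⟩ := hym
  rw [H.eq_part hx hx' ⟨i, rfl⟩, H.eq_part hy hy' ⟨j, rfl⟩]
  exact H.eq_of_pp h2 hq hs hx' hxq hy' hys (hc.zpow_zpow i j)

theorem Hyp.comm_reg {x w v : G} (hx : NC p x) (hw : w ∈ C1 x) (hv : v ∈ C1 x) (hwr : Reg p w) :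
    Commute w v := by
  by_cases hwz : w ∈ Subgroup.center G
  · exact (Subgroup.mem_center_iff.1 hwz v).symm
  · exact (mem_C1.1 (H.eq_of_comm h2 hx ⟨hwr, hwz⟩ (mem_C1.1 hw).symm ▸ hv)).symm

omit H h2

/-- The `p`-regular elements of a centralizer. -/
def RA (p : ℕ) (x : G) : Subgroup G := Subgroup.closure {w | w ∈ C1 x ∧ Reg p w}

/-- The `r`-elements of a centralizer. -/
def PA (r : ℕ) (x : G) : Subgroup G := Subgroup.closure {w | w ∈ C1 x ∧ PP r w}

theorem PA_congr {r : ℕ} {x y : G} (h : C1 x = C1 y) : PA r x = PA r y := by rw [PA, PA, h]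

include H h2

theorem Hyp.mem_RA {x w : G} (hx : NC p x) : w ∈ RA p x ↔ w ∈ C1 x ∧ Reg p w := by
  refine ⟨fun h => ?_, fun h => Subgroup.subset_closure h⟩
  induction h using Subgroup.closure_induction with
  | mem a ha => exact ha
  | one => exact ⟨one_mem _, reg_one⟩
  | mul a b _ _ ha hb => exact ⟨mul_mem ha.1 hb.1, ha.2.mul hb.2 (H.comm_reg h2 hx ha.1 hb.1 ha.2)⟩
  | inv a _ ha => exact ⟨inv_mem ha.1, ha.2.inv⟩

theorem Hyp.mem_PA {x w : G} (hx : NC p x) {r : ℕ} (hr : r.Prime) (hrp : r ≠ p) :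
    w ∈ PA r x ↔ w ∈ C1 x ∧ PP r w := by
  refine ⟨fun h => ?_, fun h => Subgroup.subset_closure h⟩
  induction h using Subgroup.closure_induction with
  | mem a ha => exact ha
  | one => exact ⟨one_mem _, pp_one⟩
  | mul a b _ _ ha hb =>
    exact ⟨mul_mem ha.1 hb.1, ha.2.mul hr hb.2 (H.comm_reg h2 hx ha.1 hb.1 (pp_reg H.hp hr hrp ha.2))⟩
  | inv a _ ha => exact ⟨inv_mem ha.1, ha.2.inv⟩

theorem Hyp.PA_sylIn {x : G} (hx : NC p x) {r : ℕ} [hr : Fact r.Prime] (hrp : r ≠ p) :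
    SylIn r (PA r x) (C1 x) := by
  have hle : PA r x ≤ C1 x := fun w hw => ((H.mem_PA h2 hx hr.out hrp).1 hw).1
  have hp' : IsPGroup r (PA r x) := by
    rintro ⟨w, hw⟩
    obtain ⟨k, hk⟩ := ((H.mem_PA h2 hx hr.out hrp).1 hw).2
    exact ⟨k, Subtype.ext (by show w ^ r ^ k = 1; rw [← hk, pow_orderOf_eq_one])⟩
  obtain ⟨T, hT⟩ := exists_sylIn (p := r) (C1 x)
  have hTP : T ≤ PA r x := fun t ht =>
    (H.mem_PA h2 hx hr.out hrp).2 ⟨hT.le ht, pp_of_isPGroup hT.isPGroup ht⟩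
  exact hT.of_card_ge hp' hle (Subgroup.card_le_of_le hTP)

theorem Hyp.card_PA {x : G} (hx : NC p x) {r : ℕ} [hr : Fact r.Prime] (hrp : r ≠ p) :
    Nat.card (PA r x) = r ^ (Nat.card (C1 x)).factorization r := card_sylIn (H.PA_sylIn h2 hx hrp)

theorem Hyp.PA_cj {x : G} (hx : NC p x) {r : ℕ} (hr : r.Prime) (hrp : r ≠ p) (g : G) :
    cj (PA r x) g = PA r (g * x * g⁻¹) := by
  ext w
  rw [mem_cj, H.mem_PA h2 hx hr hrp, H.mem_PA h2 (hx.conj g) hr hrp, C1_conj, mem_cj]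
  refine and_congr_right fun _ => ⟨fun h => ?_, fun h => ?_⟩
  · have := h.conj g; simpa [mul_assoc] using this
  · have := h.conj g⁻¹; simpa [mul_assoc] using this

theorem Hyp.comm_PA_reg {x : G} (hx : NC p x) {w v : G} {r : ℕ} (hr : r.Prime) (hrp : r ≠ p)
    (hw : w ∈ PA r x) (hv : v ∈ C1 x) : Commute w v :=
  H.comm_reg h2 hx ((H.mem_PA h2 hx hr hrp).1 hw).1 hv (pp_reg H.hp hr hrp ((H.mem_PA h2 hx hr hrp).1 hw).2)

end Cfsg.Agent.Solv.TwoSizeRegular
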