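import Mathlib
import Cfsg.Agent.Lib.Solv.TwoSizeRegular.Action
import Cfsg.Agent.Lib.Solv.TwoSizeRegular.Basic

/-!
At most one prime has its Sylow subgroups larger than the centralizers' parts.
-/

set_option autoImplicit false
set_option linter.style.haveILetI false
set_option linter.unusedSectionVars false

namespace Cfsg.Agent.Solv.TwoSizeRegular

open Cfsg.Agent.Fusion

variable {G : Type*} [Group G] [Finite G] {p : ℕ}

/-- A prime whose part in some centralizer is not that of the group. -/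
def Nab (G : Type*) [Group G] (p q : ℕ) : Prop :=
  q.Prime ∧ q ≠ p ∧ ∃ x : G, NC p x ∧ (Nat.card (C1 x)).factorization q < (Nat.card G).factorization q

variable (H : Hyp G p)
include H

theorem Hyp.fact_lt {q : ℕ} (hq : Nab G p q) {x : G} (hx : NC p x) :
    (Nat.card (C1 x)).factorization q < (Nat.card G).factorization q := by
  obtain ⟨-, -, y, hy, h⟩ := hq
  rwa [H.size x y hx hy]

theorem Hyp.nab_inPi {q : ℕ} (hq : Nab G p q) : InPi G p q := by
  obtain ⟨hqp, hqne, y, hy, hlt⟩ := hq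
  by_contra hno
  haveI := Fact.mk hqp
  let Q : Sylow q G := default
  have hle : (Q : Subgroup G) ≤ C1 y := fun t ht =>
    center_le_C1 y (H.central_of_not_pi hqp hqne hno (pp_of_isPGroup Q.isPGroup' ht))
  have h1 := card_le_ppart Q.isPGroup' hle
  rw [Q.card_eq_multiplicity] at h1
  exact absurd ((Nat.pow_le_pow_iff_right hqp.one_lt).1 h1) (not_le.2 hlt)

/-- An element centralised by a Sylow subgroup modulo the centre. -/
theorem Hyp.exists_z2 {q : ℕ} [hqf : Fact q.Prime] (hq : InPi G p q) (Q : Sylow q G) :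
    ∃ x ∈ (Q : Subgroup G), NC p x ∧ ∀ g ∈ (Q : Subgroup G), g * x * g⁻¹ * x⁻¹ ∈ Subgroup.center G := by
  obtain ⟨-, hqne, x0, hx0, k, hk⟩ := hq
  let π := QuotientGroup.mk' (Subgroup.center G)
  have hne : (Q : Subgroup G).map π ≠ ⊥ := by
    intro e
    rw [Subgroup.map_eq_bot_iff, QuotientGroup.ker_mk'] at e
    obtain ⟨h, -, hh⟩ := (sylIn_top Q).conj_le (Q := Subgroup.zpowers x0)
      (IsPGroup.of_card (n := k) (by rw [Nat.card_zpowers, hk])) le_top
    have h1 := e (hh (conj_mem_cj (g := h) (Subgroup.mem_zpowers x0)))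
    exact (hx0.conj h).2 h1
  haveI : Nontrivial ((Q : Subgroup G).map π : Subgroup (G ⧸ Subgroup.center G)) :=
    (Subgroup.nontrivial_iff_ne_bot _).2 hne
  haveI := (Q.isPGroup'.map π).center_nontrivial
  obtain ⟨⟨⟨_, y, hy, rfl⟩, hyc⟩, hy1⟩ := exists_ne (1 : Subgroup.center ((Q : Subgroup G).map π))
  refine ⟨y, hy, ⟨pp_reg H.hp hqf.out hqne (pp_of_isPGroup Q.isPGroup' hy), fun h => hy1 ?_⟩, fun g hg => ?_⟩
  · exact Subtype.ext (Subtype.ext ((QuotientGroup.eq_one_iff y).2 h))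
  · rw [← QuotientGroup.eq_one_iff]
    have h := congrArg Subtype.val (Subgroup.mem_center_iff.1 hyc ⟨π g, g, hg, rfl⟩)
    show π (g * y * g⁻¹ * y⁻¹) = 1
    simp only [map_mul, map_inv]
    simp only [Subgroup.coe_mul] at h
    rw [h]; group

omit H in
theorem C1_eq_of_mod_center {x g : G} (h : g * x * g⁻¹ * x⁻¹ ∈ Subgroup.center G) : C1 (g * x * g⁻¹) = C1 x := by
  have e : g * x * g⁻¹ = x * (g * x * g⁻¹ * x⁻¹) := by
    rw [Subgroup.mem_center_iff.1 h x]; group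
  rw [e, C1_mul_central h]

variable (h2 : Two G p)
include h2

theorem Hyp.PA_le {q : ℕ} [hq : Fact q.Prime] (hqp : q ≠ p) (Q : Sylow q G) {x : G} (hx : NC p x)
    (h : ∀ g ∈ (Q : Subgroup G), C1 (g * x * g⁻¹) = C1 x) : PA q x ≤ Q := by
  have hn : (Q : Subgroup G) ≤ Subgroup.normalizer (PA q x : Set G) := fun g hg =>
    mem_normalizer_iff_cj.2 (by rw [H.PA_cj h2 hx hq.out hqp, PA_congr (h g hg)])
  have hp' : IsPGroup q ((Q : Subgroup G) ⊔ PA q x : Subgroup G) :=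
    Q.isPGroup'.to_sup_of_normal_right' (H.PA_sylIn h2 hx hqp).isPGroup hn
  exact le_sup_right.trans (Q.is_maximal' hp' le_sup_left).le

/-- A Sylow subgroup with an element whose centralizer it normalises. -/
theorem Hyp.setup {q : ℕ} [hqf : Fact q.Prime] (hq : Nab G p q) (Q : Sylow q G) :
    ∃ x ∈ (Q : Subgroup G), NC p x ∧ (∀ g ∈ (Q : Subgroup G), C1 (g * x * g⁻¹) = C1 x) ∧ PA q x ≤ Q := by
  obtain ⟨x, hxQ, hx, h⟩ := H.exists_z2 (H.nab_inPi hq) Q
  exact ⟨x, hxQ, hx, fun g hg => C1_eq_of_mod_center (h g hg),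
    H.PA_le h2 hq.2.1 Q hx fun g hg => C1_eq_of_mod_center (h g hg)⟩

theorem Hyp.orbit_lt {q r : ℕ} [hqf : Fact q.Prime] [hrf : Fact r.Prime] (hqp : q ≠ p) (hr : InPi G p r)
    (hqr : q ≠ r) (Q : Sylow q G) {x : G} (hx : NC p x)
    (h : ∀ g ∈ (Q : Subgroup G), C1 (g * x * g⁻¹) = C1 x) (hXQ : PA q x ≤ Q) :
    Nat.card (Q : Subgroup G) * r ^ (Nat.card (Subgroup.center G)).factorization r <
      q ^ (Nat.card (C1 x)).factorization q * r ^ (Nat.card (C1 x)).factorization r := by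
  classical
  obtain ⟨y, hyC, hy, hyr⟩ := H.exists_pp_mem hx hr
  set Zr := PA r x ⊓ Subgroup.center G
  have hz : r ^ (Nat.card (Subgroup.center G)).factorization r ≤ Nat.card Zr := by
    obtain ⟨T, hT⟩ := exists_sylIn (p := r) (Subgroup.center G)
    rw [← card_sylIn hT]
    exact Subgroup.card_le_of_le fun t ht => ⟨(H.mem_PA h2 hx hrf.out hr.2.1).2
      ⟨center_le_C1 x (hT.le ht), pp_of_isPGroup hT.isPGroup ht⟩, hT.le ht⟩
  have hyP : y ∈ PA r x := (H.mem_PA h2 hx hrf.out hr.2.1).2 ⟨hyC, hyr⟩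
  have hmemP : ∀ g ∈ (Q : Subgroup G), g * y * g⁻¹ ∈ PA r x := fun g hg => by
    rw [← PA_congr (h g hg), ← H.PA_cj h2 hx hrf.out hr.2.1]
    exact conj_mem_cj hyP
  let X := (PA q x).subgroupOf (Q : Subgroup G)
  let f : ((Q : Subgroup G) ⧸ X) × Zr → PA r x := fun kz =>
    ⟨(kz.1.out : G) * y * (kz.1.out : G)⁻¹ * kz.2, mul_mem (hmemP _ kz.1.out.2) kz.2.2.1⟩
  have hinj : Function.Injective f := by
    rintro ⟨k, z⟩ ⟨k', z'⟩ e
    have e' : (k.out : G) * y * (k.out : G)⁻¹ * z = (k'.out : G) * y * (k'.out : G)⁻¹ * z' :=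
      congrArg Subtype.val e
    set g : G := (k'.out : G)⁻¹ * k.out with hg_def
    have hgQ : g ∈ (Q : Subgroup G) := mul_mem (inv_mem k'.out.2) k.out.2
    have hw : ((z' : G) * (z : G)⁻¹) ∈ Subgroup.center G := mul_mem z'.2.2 (inv_mem z.2.2)
    have hg : g * y * g⁻¹ = y * ((z' : G) * (z : G)⁻¹) := by
      have e2 : (k.out : G) * y * (k.out : G)⁻¹ =
          (k'.out : G) * y * (k'.out : G)⁻¹ * ((z' : G) * (z : G)⁻¹) := by
        rw [← mul_assoc, eq_mul_inv_iff_mul_eq]; exact e'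
      rw [mul_assoc ((k'.out : G) * y), Subgroup.mem_center_iff.1 hw _] at e2
      calc g * y * g⁻¹ = (k'.out : G)⁻¹ * ((k.out : G) * y * (k.out : G)⁻¹) * k'.out := by rw [hg_def]; group
        _ = y * ((z' : G) * (z : G)⁻¹) := by rw [e2]; group
    have hco : (orderOf g).Coprime (orderOf y) := by
      obtain ⟨i, hi⟩ := pp_of_isPGroup Q.isPGroup' hgQ
      obtain ⟨j, hj⟩ := hyr
      rw [hi, hj]
      exact Nat.Coprime.pow _ _ ((Nat.coprime_primes hqf.out hrf.out).2 hqr)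
    have hgy := commute_of_conj_mul hw hg hco
    have hgC : g ∈ C1 x := (H.eq_of_comm h2 hx hy (mem_C1.1 hyC).symm).ge (mem_C1.2 hgy)
    have hgX : g ∈ PA q x := (H.mem_PA h2 hx hqf.out hqp).2 ⟨hgC, pp_of_isPGroup Q.isPGroup' hgQ⟩
    have hk : k = k' := by
      rw [← QuotientGroup.out_eq' k, ← QuotientGroup.out_eq' k']
      symm
      rw [QuotientGroup.eq]
      exact hgX
    subst hk
    have : (z : G) = z' := mul_left_cancel e'
    exact Prod.ext rfl (Subtype.ext this)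
  have hns : ¬ Function.Surjective f := by
    intro hs
    obtain ⟨⟨k, z⟩, e⟩ := hs 1
    have e' : (k.out : G) * y * (k.out : G)⁻¹ * z = 1 := congrArg Subtype.val e
    rw [mul_eq_one_iff_eq_inv] at e'
    apply (hy.conj (k.out : G)).2
    rw [e']
    exact inv_mem z.2.2
  have hcard : Nat.card (((Q : Subgroup G) ⧸ X) × Zr) < Nat.card (PA r x) := by
    rcases (Nat.card_le_card_of_injective f hinj).eq_or_lt with he | hlt
    · exact absurd ((Nat.bijective_iff_injective_and_card f).2 ⟨hinj, he⟩).2 hns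
    · exact hlt
  rw [Nat.card_prod, H.card_PA h2 hx hr.2.1] at hcard
  have hQc : Nat.card (Q : Subgroup G) = Nat.card ((Q : Subgroup G) ⧸ X) * q ^ (Nat.card (C1 x)).factorization q := by
    rw [← H.card_PA h2 hx hqp, ← Nat.card_congr (Subgroup.subgroupOfEquivOfLe hXQ).toEquiv]
    exact Subgroup.card_eq_card_quotient_mul_card_subgroup X
  rw [hQc]
  calc _ = q ^ (Nat.card (C1 x)).factorization q *
        (Nat.card ((Q : Subgroup G) ⧸ X) * r ^ (Nat.card (Subgroup.center G)).factorization r) := by ring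
    _ ≤ q ^ (Nat.card (C1 x)).factorization q * (Nat.card ((Q : Subgroup G) ⧸ X) * Nat.card Zr) := by gcongr
    _ < _ := Nat.mul_lt_mul_of_pos_left hcard (pow_pos hqf.out.pos _)

theorem Hyp.sq_le {q : ℕ} [hqf : Fact q.Prime] (hq : Nab G p q) (Q : Sylow q G) {x : G} (hx : NC p x)
    (hXQ : PA q x ≤ Q) {x0 w0 : G} (hx0 : NC p x0) (hw0 : NC p w0)
    (hno : ∀ h, C1 (h * x0 * h⁻¹) ≠ C1 w0) :
    q ^ (Nat.card (C1 x)).factorization q * q ^ (Nat.card (C1 x)).factorization q ≤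
      Nat.card (Q : Subgroup G) * q ^ (Nat.card (Subgroup.center G)).factorization q := by
  have hqp := hq.2.1
  obtain ⟨w, hw, hwno⟩ : ∃ w, NC p w ∧ ∀ h, C1 (h * x * h⁻¹) ≠ C1 w := by
    by_contra hall
    push Not at hall
    obtain ⟨a, ha⟩ := hall x0 hx0
    obtain ⟨b, hb⟩ := hall w0 hw0
    refine hno (b * a⁻¹) ?_
    rw [C1_conj, ← ha, C1_conj, cj_cj, inv_mul_cancel_right, ← C1_conj, hb]
  obtain ⟨g, hgC, hg, hgq⟩ := H.exists_pp_mem hw (H.nab_inPi hq)
  have hgw : C1 w = C1 g := H.eq_of_comm h2 hw hg (mem_C1.1 hgC).symm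
  obtain ⟨h, -, hh⟩ := (sylIn_top Q).conj_le (H.PA_sylIn h2 hg hqp).isPGroup le_top
  rw [H.PA_cj h2 hg hqf.out hqp] at hh
  set g' := h * g * h⁻¹
  have hg' : NC p g' := hg.conj h
  have hinf : PA q x ⊓ PA q g' ≤ Subgroup.center G := by
    rintro u ⟨hu1, hu2⟩
    by_contra hc
    obtain ⟨hu1C, hu1q⟩ := (H.mem_PA h2 hx hqf.out hqp).1 hu1
    obtain ⟨hu2C, -⟩ := (H.mem_PA h2 hg' hqf.out hqp).1 hu2
    have hu : NC p u := ⟨pp_reg H.hp hqf.out hqp hu1q, hc⟩
    have e : C1 x = C1 g' := (H.eq_of_comm h2 hx hu (mem_C1.1 hu1C).symm).trans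
      (H.eq_of_comm h2 hg' hu (mem_C1.1 hu2C).symm).symm
    refine hwno h⁻¹ ?_
    rw [C1_conj, e, C1_conj, cj_cj, inv_mul_cancel, cj_one, hgw]
  have hX := H.card_PA h2 hx hqp
  have hY : Nat.card (PA q g') = q ^ (Nat.card (C1 x)).factorization q := by
    rw [H.card_PA h2 hg' hqp, H.size g' x hg' hx]
  have hI : Nat.card (PA q x ⊓ PA q g' : Subgroup G) ≤ q ^ (Nat.card (Subgroup.center G)).factorization q :=
    card_le_ppart (H.PA_sylIn h2 hx hqp).isPGroup.to_inf_left hinf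
  have h1 := card_mul_rel (inf_le_right : PA q x ⊓ PA q g' ≤ PA q g')
  rw [Subgroup.inf_relIndex_right] at h1
  have h3 : (PA q x).relIndex (PA q g') ≤ (PA q x).relIndex (Q : Subgroup G) :=
    Subgroup.relIndex_le_of_le_right hh Subgroup.FiniteIndex.index_ne_zero
  have h4 := card_mul_rel hXQ
  calc _ = Nat.card (PA q x) * Nat.card (PA q g') := by rw [hX, hY]
    _ = Nat.card (PA q x) * (Nat.card (PA q x ⊓ PA q g' : Subgroup G) * (PA q x).relIndex (PA q g')) := by rw [h1]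
    _ ≤ Nat.card (PA q x) * (q ^ (Nat.card (Subgroup.center G)).factorization q *
        (PA q x).relIndex (Q : Subgroup G)) := Nat.mul_le_mul_left _ (Nat.mul_le_mul hI h3)
    _ = _ := by rw [← h4]; ring

/-- At most one such prime. -/
theorem Hyp.nab_unique {q r : ℕ} (hq : Nab G p q) (hr : Nab G p r) : q = r := by
  classical
  by_contra hqr
  haveI hqF := Fact.mk hq.1
  haveI hrF := Fact.mk hr.1
  let Q : Sylow q G := default
  let R : Sylow r G := default
  by_cases hall : ∀ x w : G, NC p x → NC p w → ∃ h, C1 (h * x * h⁻¹) = C1 w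
  swap
  · push Not at hall
    obtain ⟨x0, w0, hx0, hw0, hno⟩ := hall
    obtain ⟨x, -, hx, hxn, hXQ⟩ := H.setup h2 hq Q
    obtain ⟨y, -, hy, hyn, hYR⟩ := H.setup h2 hr R
    have a1 := H.orbit_lt h2 hq.2.1 (H.nab_inPi hr) hqr Q hx hxn hXQ
    have a2 := H.orbit_lt h2 hr.2.1 (H.nab_inPi hq) (Ne.symm hqr) R hy hyn hYR
    have b1 := H.sq_le h2 hq Q hx hXQ hx0 hw0 hno
    have b2 := H.sq_le h2 hr R hy hYR hx0 hw0 hno
    rw [H.size y x hy hx] at a2 b2
    have c1 := Nat.mul_lt_mul'' a1 a2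
    have c2 := Nat.mul_le_mul b1 b2
    refine absurd (c1.trans_le (le_of_eq_of_le ?_ (c2.trans (le_of_eq ?_)))) (lt_irrefl _)
    · ring
    · ring
  obtain ⟨x0, hx0⟩ := H.ex
  set N : Subgroup G := Subgroup.normalizer (C1 x0 : Set G)
  let C := (C1 x0).subgroupOf N
  haveI hC : C.Normal := Subgroup.normal_in_normalizer
  have hdvd : ∀ {s : ℕ}, Nab G p s → s ∣ Nat.card (N ⧸ C) := by
    intro s hs
    haveI := Fact.mk hs.1
    let S : Sylow s G := default
    obtain ⟨y, -, hy, hyn, -⟩ := H.setup h2 hs S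
    obtain ⟨h, hh⟩ := hall y x0 hy hx0
    have hle : cj (S : Subgroup G) h ≤ N := by
      show _ ≤ Subgroup.normalizer (C1 x0 : Set G)
      rw [← hh, C1_conj, ← cj_normalizer]
      exact cj_mono (fun g hg => mem_normalizer_iff_cj.2 (by rw [← C1_conj, hyn g hg])) h
    obtain ⟨σ, hσ, hσC⟩ : ∃ σ ∈ cj (S : Subgroup G) h, σ ∉ C1 x0 := by
      by_contra hno
      push Not at hno
      have := card_le_ppart (isPGroup_cj S.isPGroup' h) (fun σ hσ => hno σ hσ)
      rw [card_cj, S.card_eq_multiplicity] at this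
      exact absurd ((Nat.pow_le_pow_iff_right hs.1.one_lt).1 this) (not_le.2 (H.fact_lt hs hx0))
    obtain ⟨i, hi⟩ := pp_of_isPGroup (isPGroup_cj S.isPGroup' h) hσ
    set σ' : N ⧸ C := QuotientGroup.mk ⟨σ, hle hσ⟩
    have hd : orderOf σ' ∣ s ^ i := by
      refine (orderOf_map_dvd (QuotientGroup.mk' C) _).trans ?_
      rw [Subgroup.orderOf_mk, hi]
    obtain ⟨j, -, hj⟩ := (Nat.dvd_prime_pow hs.1).1 hd
    rcases j with _ | j
    · rw [pow_zero, orderOf_eq_one_iff, QuotientGroup.eq_one_iff] at hj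
      exact absurd hj hσC
    · exact dvd_trans (hj ▸ dvd_pow_self s j.succ_ne_zero) (orderOf_dvd_natCard _)
  let A := RA p x0
  letI : CommGroup A := { (inferInstance : Group A) with
    mul_comm := fun a b => Subtype.ext (H.comm_reg h2 hx0 ((H.mem_RA h2 hx0).1 a.2).1
      ((H.mem_RA h2 hx0).1 b.2).1 ((H.mem_RA h2 hx0).1 a.2).2).eq }
  have hN : ∀ n ∈ N, ∀ a ∈ A, n * a * n⁻¹ ∈ A := fun n hn a ha => by
    refine (H.mem_RA h2 hx0).2 ⟨?_, ?_⟩
    · exact (Subgroup.mem_normalizer_iff.1 hn a).1 ((H.mem_RA h2 hx0).1 ha).1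
    · show Nat.Coprime _ _
      rw [orderOf_conj]; exact ((H.mem_RA h2 hx0).1 ha).2
  let ψ : N →* MulAut A :=
    { toFun := fun n =>
        { toFun := fun a => ⟨(n : G) * a * (n : G)⁻¹, hN n n.2 a a.2⟩
          invFun := fun a => ⟨(n : G)⁻¹ * a * n, by
            have := hN _ (inv_mem n.2) a a.2; rwa [inv_inv] at this⟩
          left_inv := fun a => Subtype.ext (by simp [mul_assoc])
          right_inv := fun a => Subtype.ext (by simp [mul_assoc])
          map_mul' := fun a b => Subtype.ext (by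
            show (n : G) * ((a : G) * b) * (n : G)⁻¹ = ((n : G) * a * (n : G)⁻¹) * ((n : G) * b * (n : G)⁻¹)
            group) }
      map_one' := MulEquiv.ext fun a => Subtype.ext (by simp)
      map_mul' := fun m n => MulEquiv.ext fun a => Subtype.ext (by
        show ((m * n : N) : G) * a * ((m * n : N) : G)⁻¹ = (m : G) * ((n : G) * a * (n : G)⁻¹) * (m : G)⁻¹
        push_cast; group) }
  have hker : C ≤ ψ.ker := fun n hn => MulEquiv.ext fun a => Subtype.ext (by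
    show (n : G) * a * (n : G)⁻¹ = a
    exact mul_inv_eq_iff_eq_mul.2
      (H.comm_reg h2 hx0 ((H.mem_RA h2 hx0).1 a.2).1 hn ((H.mem_RA h2 hx0).1 a.2).2).symm.eq)
  let Z := (Subgroup.center G).subgroupOf A
  have hf : Fpf (QuotientGroup.lift C ψ hker) Z := by
    refine ⟨fun n z hz => ?_, fun n hn a ha => ?_⟩
    · obtain ⟨n, rfl⟩ := QuotientGroup.mk_surjective n
      refine Subtype.ext ?_
      show (n : G) * z * (n : G)⁻¹ = z
      exact mul_inv_eq_iff_eq_mul.2 (Subgroup.mem_center_iff.1 hz (n : G))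
    · obtain ⟨n, rfl⟩ := QuotientGroup.mk_surjective n
      by_contra hz
      refine hn ((QuotientGroup.eq_one_iff n).2 ?_)
      have ha' : (n : G) * a * (n : G)⁻¹ = a := congrArg Subtype.val ha
      have hc : Commute (n : G) a := mul_inv_eq_iff_eq_mul.1 ha'
      have haC := ((H.mem_RA h2 hx0).1 a.2)
      exact (H.eq_of_comm h2 hx0 ⟨haC.2, hz⟩ (mem_C1.1 haC.1).symm).ge (mem_C1.2 hc)
  have hel : ∀ {s : ℕ}, InPi G p s → ∃ a : A, (∃ k, orderOf a = s ^ k) ∧ a ∉ Z := by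
    intro s hs
    obtain ⟨y, hyC, hy, k, hk⟩ := H.exists_pp_mem hx0 hs
    exact ⟨⟨y, (H.mem_RA h2 hx0).2 ⟨hyC, hy.1⟩⟩, ⟨k, by rw [Subgroup.orderOf_mk, hk]⟩, hy.2⟩
  exact hf.false_of_two hq.1 hr.1 hqr (hdvd hq) (hdvd hr) (hel (H.nab_inPi hq)) (hel (H.nab_inPi hr))

end Cfsg.Agent.Solv.TwoSizeRegular
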