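import Mathlib
import Cfsg.Agent.Lib.Perm.Kazarin
import Cfsg.Agent.Lib.Solv.ClassPow
import Cfsg.Agent.Lib.Solv.TwoSizeRegular.Nab

/-!
Two sizes of `p`-regular classes.
-/

set_option autoImplicit false
set_option linter.style.haveILetI false
set_option linter.unusedSectionVars false

namespace Cfsg.Agent.Solv.TwoSizeRegular

open Cfsg.Agent.Fusion

variable {G : Type*} [Group G] [Finite G] {p : ℕ}

theorem exists_elementary_normal_le {R : Subgroup G} [R.Normal] (hR : R ≠ ⊥) (hs : Group.IsSolvable R) :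
    ∃ (s : ℕ) (M : Subgroup G), s.Prime ∧ M.Normal ∧ M ≠ ⊥ ∧ M ≤ R ∧ ∀ x ∈ M, x ^ s = 1 := by
  obtain ⟨M, hM, hM1, hMR, hmin⟩ := Cfsg.Agent.Solv.exists_minimal_normal_le R hR
  haveI := hM
  have hab : ⁅M, M⁆ = ⊥ := by
    rcases hmin ⁅M, M⁆ inferInstance (Subgroup.commutator_le_left M M) with h | h
    · exact h
    exfalso
    have hall : ∀ n, M ≤ (derivedSeries R n).map R.subtype := by
      intro n
      induction n with
      | zero => rw [derivedSeries_zero, ← MonoidHom.range_eq_map, Subgroup.range_subtype]; exact hMR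
      | succ n ih =>
        rw [derivedSeries_succ, Subgroup.map_commutator]
        exact h.ge.trans (Subgroup.commutator_mono ih ih)
    obtain ⟨n, hn⟩ := (Group.isSolvable_def _).1 hs
    refine hM1 (le_bot_iff.1 ?_)
    have := hall n
    rwa [hn, Subgroup.map_bot] at this
  have hcomm : ∀ a ∈ M, ∀ b ∈ M, Commute a b := fun a ha b hb => by
    have h1 := Subgroup.commutator_eq_bot_iff_le_centralizer.1 hab ha
    exact (Subgroup.mem_centralizer_iff.1 h1 b hb).symm
  obtain ⟨s, hsp, hd⟩ := Nat.exists_prime_and_dvd (n := Nat.card M) (fun e => hM1 (Subgroup.eq_bot_of_card_eq M e))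
  haveI := Fact.mk hsp
  let E : Subgroup G :=
    { carrier := {x | x ∈ M ∧ x ^ s = 1}
      one_mem' := ⟨one_mem _, one_pow _⟩
      mul_mem' := fun {a b} ha hb => ⟨mul_mem ha.1 hb.1, by rw [(hcomm a ha.1 b hb.1).mul_pow, ha.2, hb.2, one_mul]⟩
      inv_mem' := fun {a} ha => ⟨inv_mem ha.1, by rw [inv_pow, ha.2, inv_one]⟩ }
  have hE : E.Normal := ⟨fun a ha g => ⟨hM.conj_mem a ha.1 g, by rw [conj_pow, ha.2, mul_one, mul_inv_cancel]⟩⟩
  obtain ⟨e, he⟩ := exists_prime_orderOf_dvd_card' (p := s) hd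
  rcases hmin E hE (fun x hx => hx.1) with h | h
  · exfalso
    have hm : (e : G) ∈ E := ⟨e.2, by rw [← he, ← Subgroup.orderOf_coe, pow_orderOf_eq_one]⟩
    rw [h, Subgroup.mem_bot, OneMemClass.coe_eq_one] at hm
    rw [hm, orderOf_one] at he
    exact hsp.one_lt.ne he
  · exact ⟨s, M, hsp, hM, hM1, hMR, fun x hx => (h.ge hx).2⟩

theorem not_dvd_index_of_fact {A : Subgroup G} {s : ℕ} [hs : Fact s.Prime]
    (h : s ^ (Nat.card G).factorization s ∣ Nat.card A) : ¬ s ∣ A.index := fun hd => by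
  have h1 : s ^ ((Nat.card G).factorization s + 1) ∣ Nat.card G := by
    rw [← A.card_mul_index, pow_succ]
    exact mul_dvd_mul (by rw [A.card_mul_index]; exact h) hd
  have := (hs.out.pow_dvd_iff_le_factorization Nat.card_pos.ne').1 h1
  omega

variable (H : Hyp G p)
include H

/-- One prime only. -/
theorem Hyp.caseA (h1 : ¬ Two G p) :
    ∃ (q : ℕ) (_ : Fact q.Prime) (P : Sylow p G) (Q : Sylow q G) (A : Subgroup G), q ≠ p ∧
      A ≤ Subgroup.center G ∧ Nat.card ↥((P : Subgroup G) ⊔ (Q : Subgroup G)) = Nat.card P * Nat.card Q ∧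
      ((P : Subgroup G) ⊔ (Q : Subgroup G)).Normal ∧
      ((P : Subgroup G) ⊔ (Q : Subgroup G)) ⊓ A = ⊥ ∧ ((P : Subgroup G) ⊔ (Q : Subgroup G)) ⊔ A = ⊤ := by
  classical
  obtain ⟨x, hx⟩ := H.ex
  obtain ⟨q, hq, -⟩ := exists_pp_part hx
  obtain ⟨hqp, hqne, hqx⟩ := hq
  haveI := Fact.mk H.hp
  haveI := Fact.mk hqp
  have hother : ∀ t : ℕ, t.Prime → t ≠ p → t ≠ q → ∀ y : G, PP t y → y ∈ Subgroup.center G :=
    fun t ht htp htq y hy => H.central_of_not_pi ht htp
      (fun h => h1 ⟨t, q, h, ⟨hqp, hqne, hqx⟩, htq⟩) hy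
  let A : Subgroup G :=
    { carrier := {z | z ∈ Subgroup.center G ∧ (orderOf z).Coprime (p * q)}
      one_mem' := ⟨one_mem _, by simp⟩
      mul_mem' := fun {a b} ha hb => ⟨mul_mem ha.1 hb.1,
        (Nat.Coprime.mul_left ha.2 hb.2).coprime_dvd_left
          ((Commute.orderOf_mul_dvd_lcm (Subgroup.mem_center_iff.1 hb.1 a)).trans (Nat.lcm_dvd_mul _ _))⟩
      inv_mem' := fun {a} ha => ⟨inv_mem ha.1, by rw [orderOf_inv]; exact ha.2⟩ }
  have hAc : A ≤ Subgroup.center G := fun z hz => hz.1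
  have hidx : ∀ t : ℕ, t.Prime → t ∣ A.index → t = p ∨ t = q := by
    intro t ht hd
    by_contra hne
    push Not at hne
    haveI := Fact.mk ht
    let T : Sylow t G := default
    have hle : (T : Subgroup G) ≤ A := fun y hy => by
      have hy' := pp_of_isPGroup T.isPGroup' hy
      refine ⟨hother t ht hne.1 hne.2 y hy', ?_⟩
      obtain ⟨k, hk⟩ := hy'
      rw [hk]
      exact (Nat.Coprime.mul_right ((Nat.coprime_primes ht H.hp).2 hne.1)
        ((Nat.coprime_primes ht hqp).2 hne.2)).pow_left k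
    exact T.not_dvd_index (hd.trans (Subgroup.index_dvd_of_le hle))
  have hcard : ∀ t : ℕ, t.Prime → t ∣ Nat.card A → t ≠ p ∧ t ≠ q := by
    intro t ht hd
    haveI := Fact.mk ht
    obtain ⟨z, hz⟩ := exists_prime_orderOf_dvd_card' (p := t) hd
    have h := z.2.2
    rw [Subgroup.orderOf_coe, hz, Nat.coprime_mul_iff_right] at h
    exact ⟨fun e => ht.one_lt.ne' (by rw [e, Nat.coprime_self] at h; exact e.trans h.1),
      fun e => ht.one_lt.ne' (by rw [e, Nat.coprime_self] at h; exact e.trans h.2)⟩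
  have hco : Nat.Coprime (Nat.card A) A.index := by
    refine Nat.coprime_of_dvd fun t ht h1 h2 => ?_
    rcases hidx t ht h2 with e | e
    · exact (hcard t ht h1).1 e
    · exact (hcard t ht h1).2 e
  haveI : A.Normal := ⟨fun n hn g => by
    rwa [Subgroup.mem_center_iff.1 (hAc hn) g, mul_inv_cancel_right]⟩
  obtain ⟨B, hB⟩ := Subgroup.exists_right_complement'_of_coprime hco
  have hBc : Nat.card B = A.index := by
    have := hB.card_mul
    rw [← A.card_mul_index] at this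
    exact Nat.eq_of_mul_eq_mul_left Nat.card_pos this
  have hBn : B.Normal := ⟨fun b hb g => by
    obtain ⟨⟨⟨a, ha⟩, ⟨c, hc⟩⟩, e⟩ := hB.surjective g
    simp only at e
    subst e
    have h1 : c * b * c⁻¹ ∈ B := mul_mem (mul_mem hc hb) (inv_mem hc)
    have h2 : a * c * b * (a * c)⁻¹ = c * b * c⁻¹ := by
      calc a * c * b * (a * c)⁻¹ = a * (c * b * c⁻¹) * a⁻¹ := by group
        _ = c * b * c⁻¹ := by
          rw [← Subgroup.mem_center_iff.1 (hAc ha) (c * b * c⁻¹), mul_inv_cancel_right]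
    rw [h2]; exact h1⟩
  have hin : ∀ {t : ℕ} [Fact t.Prime], (t = p ∨ t = q) → ∀ T : Sylow t G, (T : Subgroup G) ≤ B := by
    intro t htF ht T y hy
    obtain ⟨⟨⟨a, ha⟩, ⟨c, hc⟩⟩, e⟩ := hB.surjective y
    simp only at e
    obtain ⟨k, hk⟩ := pp_of_isPGroup T.isPGroup' hy
    have hac : Commute a c := (Subgroup.mem_center_iff.1 (hAc ha) c).symm
    have h1 : a ^ t ^ k * c ^ t ^ k = 1 := by rw [← hac.mul_pow, e, ← hk, pow_orderOf_eq_one]
    have h2 : a ^ t ^ k = 1 := by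
      have h3 : a ^ t ^ k ∈ B := by rw [eq_inv_of_mul_eq_one_left h1]; exact inv_mem (pow_mem hc _)
      exact Subgroup.mem_bot.1 (hB.disjoint.le_bot ⟨pow_mem ha _, h3⟩)
    have h4 : a = 1 := by
      rw [← orderOf_eq_one_iff]
      have hd := orderOf_dvd_of_pow_eq_one h2
      have hco' : (orderOf a).Coprime (t ^ k) := by
        refine Nat.Coprime.pow_right k ?_
        rcases ht with rfl | rfl
        · exact ha.2.coprime_dvd_right (dvd_mul_right _ _)
        · exact ha.2.coprime_dvd_right (dvd_mul_left _ _)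
      exact Nat.eq_one_of_dvd_coprimes hco' dvd_rfl hd
    rw [h4, one_mul] at e
    exact e ▸ hc
  let P : Sylow p G := default
  let Q : Sylow q G := default
  have hle : (P : Subgroup G) ⊔ Q ≤ B := sup_le (hin (Or.inl rfl) P) (hin (Or.inr rfl) Q)
  have hd1 : Nat.card P * Nat.card Q ∣ Nat.card ↥((P : Subgroup G) ⊔ (Q : Subgroup G)) := by
    refine Nat.Coprime.mul_dvd_of_dvd_of_dvd ?_ (Subgroup.card_dvd_of_le le_sup_left)
      (Subgroup.card_dvd_of_le le_sup_right)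
    rw [P.card_eq_multiplicity, Q.card_eq_multiplicity]
    exact Nat.Coprime.pow _ _ ((Nat.coprime_primes H.hp hqp).2 hqne.symm)
  have hd2 : Nat.card B ∣ Nat.card P * Nat.card Q := by
    rw [hBc]
    refine (Nat.dvd_iff_prime_pow_dvd_dvd _ _).2 fun t k ht hd => ?_
    rcases k with _ | k
    · simp
    have hdG : t ^ (k + 1) ∣ Nat.card G := hd.trans A.index_dvd_card
    rcases hidx t ht ((dvd_pow_self t k.succ_ne_zero).trans hd) with rfl | rfl
    · exact (P.pow_dvd_card_of_pow_dvd_card hdG).trans (dvd_mul_right _ _)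
    · exact (Q.pow_dvd_card_of_pow_dvd_card hdG).trans (dvd_mul_left _ _)
  have hd3 := Subgroup.card_dvd_of_le hle
  have he : (P : Subgroup G) ⊔ Q = B :=
    Subgroup.eq_of_le_of_card_ge hle (Nat.le_of_dvd Nat.card_pos (hd2.trans hd1))
  refine ⟨q, inferInstance, P, Q, A, hqne, hAc, Nat.dvd_antisymm (hd3.trans hd2) hd1, ?_, ?_, ?_⟩
  · rw [he]; exact hBn
  · rw [he, inf_comm]; exact hB.disjoint.eq_bot
  · rw [he, sup_comm]; exact hB.sup_eq_top

variable (h2 : Two G p)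
include h2

/-- No exceptional prime: an abelian `p`-complement. -/
theorem Hyp.complement (hno : ∀ s, ¬ Nab G p s) :
    ∃ A : Subgroup G, IsMulCommutative A ∧ ¬ p ∣ Nat.card A ∧ ∃ k : ℕ, A.index = p ^ k := by
  classical
  obtain ⟨x, hx⟩ := H.ex
  haveI := Fact.mk H.hp
  refine ⟨RA p x, ⟨⟨fun a b => Subtype.ext (H.comm_reg h2 hx ((H.mem_RA h2 hx).1 a.2).1
    ((H.mem_RA h2 hx).1 b.2).1 ((H.mem_RA h2 hx).1 a.2).2).eq⟩⟩, fun hd => ?_, ?_⟩
  · obtain ⟨z, hz⟩ := exists_prime_orderOf_dvd_card' (p := p) hd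
    have h := ((H.mem_RA h2 hx).1 z.2).2
    rw [Reg, Subgroup.orderOf_coe, hz, Nat.coprime_self] at h
    exact H.hp.one_lt.ne' h
  · refine ⟨(RA p x).index.primeFactorsList.length, ?_⟩
    refine Nat.eq_prime_pow_of_unique_prime_dvd Subgroup.index_ne_zero_of_finite fun {s} hs hd => ?_
    by_contra hsp
    haveI := Fact.mk hs
    have hle : PA s x ≤ RA p x := fun w hw => (H.mem_RA h2 hx).2
      ⟨((H.mem_PA h2 hx hs hsp).1 hw).1, pp_reg H.hp hs hsp ((H.mem_PA h2 hx hs hsp).1 hw).2⟩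
    refine not_dvd_index_of_fact ?_ hd
    refine (Nat.pow_dvd_pow s ?_).trans ((H.card_PA h2 hx hsp).symm.dvd.trans (Subgroup.card_dvd_of_le hle))
    by_contra hlt
    exact hno s ⟨hs, hsp, x, hx, not_le.1 hlt⟩

theorem Hyp.PA_top {s : ℕ} [hs : Fact s.Prime] (hsp : s ≠ p) (hn : ¬ Nab G p s) {x : G} (hx : NC p x) :
    SylIn s (PA s x) ⊤ := by
  refine (sylIn_top (default : Sylow s G)).of_card_ge (H.PA_sylIn h2 hx hsp).isPGroup le_top ?_
  rw [Sylow.card_eq_multiplicity, H.card_PA h2 hx hsp]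
  exact Nat.pow_le_pow_right hs.out.pos (not_lt.1 fun h => hn ⟨hs.out, hsp, x, hx, h⟩)

/-- The exceptional prime does not occur. -/
theorem Hyp.not_nab (q : ℕ) : ¬ Nab G p q := by
  classical
  intro hq
  haveI hqF := Fact.mk hq.1
  haveI hpF := Fact.mk H.hp
  have hqp := hq.2.1
  have hfull : ∀ s : ℕ, s ≠ q → ¬ Nab G p s := fun s hs hn => hs (H.nab_unique h2 hn hq)
  let Q : Sylow q G := default
  obtain ⟨x, hxQ, hx, hxz⟩ := H.exists_z2 (H.nab_inPi hq) Q
  have hxn : ∀ g ∈ (Q : Subgroup G), C1 (g * x * g⁻¹) = C1 x := fun g hg => C1_eq_of_mod_center (hxz g hg)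
  have hXQ : PA q x ≤ Q := H.PA_le h2 hqp Q hx hxn
  obtain ⟨g, hgQ, hgX⟩ : ∃ g ∈ (Q : Subgroup G), g ∉ PA q x := by
    by_contra hno
    push Not at hno
    have h1 := Subgroup.card_le_of_le (fun g hg => hno g hg : (Q : Subgroup G) ≤ PA q x)
    rw [Q.card_eq_multiplicity, H.card_PA h2 hx hqp] at h1
    exact absurd ((Nat.pow_le_pow_iff_right hq.1.one_lt).1 h1) (not_le.2 (H.fact_lt hq hx))
  have hgq := pp_of_isPGroup Q.isPGroup' hgQ
  have hgC : g ∉ C1 x := fun h => hgX ((H.mem_PA h2 hx hq.1 hqp).2 ⟨h, hgq⟩)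
  have hg : NC p g := ⟨pp_reg H.hp hq.1 hqp hgq, fun h => hgC (center_le_C1 x h)⟩
  -- the quotient by the core and the centre
  set K := Cfsg.pCore p G with hK_def
  haveI : K.Normal := Cfsg.Agent.Solv.pCore_normal p
  have hKp : IsPGroup p K := Cfsg.Agent.Solv.pCore_isPGroup p
  obtain ⟨kK, hkK⟩ := IsPGroup.iff_card.1 hKp
  set L := K ⊔ Subgroup.center G with hL_def
  have hLreg : ∀ y ∈ L, Reg p y → y ∈ Subgroup.center G := by
    intro y hy hyr
    obtain ⟨k, hk, z, hz, rfl⟩ := Subgroup.mem_sup_of_normal_right.1 hy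
    have hc : Commute k z := Subgroup.mem_center_iff.1 hz k
    have h1 : (k * z) ^ Nat.card K ∈ Subgroup.center G := by
      have h2 : k ^ Nat.card K = 1 := congrArg Subtype.val (pow_card_eq_one' (x := (⟨k, hk⟩ : K)))
      rw [hc.mul_pow, h2, one_mul]
      exact pow_mem hz _
    have hco : (Nat.card K).Coprime (orderOf (k * z)) := by
      rw [hkK]; exact (Nat.Coprime.pow_right kK hyr).symm
    obtain ⟨m, hm⟩ := exists_pow_eq_self_of_coprime hco
    exact hm ▸ pow_mem h1 m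
  let π := QuotientGroup.mk' L
  have hx1 : π x ≠ 1 := fun e => hx.2 (hLreg x ((QuotientGroup.eq_one_iff x).1 e) hx.1)
  obtain ⟨a, ha⟩ : ∃ a, (Subgroup.centralizer ({π x} : Set (G ⧸ L))).index = p ^ a := by
    have hd : (Subgroup.centralizer ({π x} : Set (G ⧸ L))).index ∣ (C1 x ⊔ (Q : Subgroup G)).index := by
      refine (Subgroup.index_dvd_of_le ?_).trans
        (Subgroup.index_map_dvd _ (QuotientGroup.mk'_surjective L))
      rw [Subgroup.map_sup]
      refine sup_le ?_ ?_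
      · rintro _ ⟨c, hc, rfl⟩
        exact Subgroup.mem_centralizer_singleton_iff.2 ((mem_C1.1 hc).map π).eq
      · rintro _ ⟨c, hc, rfl⟩
        refine Subgroup.mem_centralizer_singleton_iff.2 ?_
        have h1 : π (c * x * c⁻¹ * x⁻¹) = 1 :=
          (QuotientGroup.eq_one_iff _).2 (Subgroup.mem_sup_right (hxz c hc))
        rw [map_mul, map_inv, mul_inv_eq_one, map_mul, map_inv, mul_inv_eq_iff_eq_mul, map_mul] at h1
        exact h1
    have hu : ∀ {s : ℕ}, s.Prime → s ∣ (C1 x ⊔ (Q : Subgroup G)).index → s = p := by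
      intro s hs hds
      by_contra hsp
      haveI := Fact.mk hs
      rcases eq_or_ne s q with rfl | hsq
      · exact Q.not_dvd_index (hds.trans (Subgroup.index_dvd_of_le le_sup_right))
      · refine not_dvd_index_of_fact ?_ (hds.trans (Subgroup.index_dvd_of_le le_sup_left))
        refine (Nat.pow_dvd_pow s (not_lt.1 fun h => hfull s hsq ⟨hs, hsp, x, hx, h⟩)).trans ?_
        exact Nat.ordProj_dvd _ _
    rw [Nat.eq_prime_pow_of_unique_prime_dvd Subgroup.index_ne_zero_of_finite hu] at hd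
    obtain ⟨a, -, ha⟩ := (Nat.dvd_prime_pow H.hp).1 hd
    exact ⟨a, ha⟩
  have hrad := Cfsg.Agent.Perm.Kazarin.mem_rad ha
  haveI := Cfsg.Agent.Perm.Kazarin.rad_normal (G := G ⧸ L)
  have hrne : solvableRadical (G ⧸ L) ≠ ⊥ := fun e => hx1 (by rw [e] at hrad; exact hrad)
  obtain ⟨s, M, hs, hMn, hM1, -, hMs⟩ := exists_elementary_normal_le hrne Cfsg.Agent.Perm.Kazarin.rad_solvable
  haveI hsF := Fact.mk hs
  haveI := hMn
  set W := M.comap π
  haveI hWn : W.Normal := hMn.comap π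
  have hLW : L ≤ W := fun l hl => by
    show π l ∈ M
    rw [show π l = 1 from (QuotientGroup.eq_one_iff l).2 hl]; exact one_mem _
  have hWs : ∀ w ∈ W, w ^ s ∈ L := fun w hw => by
    rw [← QuotientGroup.eq_one_iff]
    show π (w ^ s) = 1
    rw [map_pow]; exact hMs _ hw
  have hWL : ¬ W ≤ L := fun h => hM1 (by
    rw [← Subgroup.map_comap_eq_self_of_surjective (QuotientGroup.mk'_surjective L) M]
    rw [Subgroup.map_eq_bot_iff, QuotientGroup.ker_mk']
    exact h)
  -- other regular primes vanish in `W`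
  have hWt : ∀ {t : ℕ}, t.Prime → t ≠ p → t ≠ s → ∀ y ∈ W, PP t y → y ∈ Subgroup.center G := by
    intro t ht htp hts y hy hyt
    refine hLreg y (mem_of_pow_mem_of_pp ht hs (Ne.symm hts) hyt (hWs y hy)) (pp_reg H.hp ht htp hyt)
  by_cases hsp : s = p
  · subst hsp
    apply hWL
    haveI : Group.IsNilpotent W := by
      refine Group.of_quotient_center_nilpotent ?_
      refine IsPGroup.isNilpotent (p := s) fun w => ?_
      obtain ⟨w, rfl⟩ := QuotientGroup.mk_surjective w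
      obtain ⟨n, m, hm, hn⟩ := Nat.exists_eq_pow_mul_and_not_dvd (orderOf_pos w).ne' s hs.ne_one
      refine ⟨n, ?_⟩
      rw [← QuotientGroup.mk_pow, QuotientGroup.eq_one_iff]
      have hmem : (w : G) ^ s ^ n ∈ Subgroup.center G := by
        refine mem_of_pp fun t ht y hy hyt => ?_
        have hyW : y ∈ W := Subgroup.zpowers_le.2 (W.pow_mem w.2 _) hy
        have hyr : Reg s y := by
          show Nat.Coprime _ _
          refine Nat.Coprime.coprime_dvd_left (orderOf_dvd_of_mem_zpowers hy) ?_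
          rw [orderOf_pow' _ (pow_ne_zero n hs.ne_zero), Subgroup.orderOf_coe, hn,
            Nat.gcd_eq_right (dvd_mul_right _ _), Nat.mul_div_cancel_left _ (pow_pos hs.pos n)]
          exact ((hs.coprime_iff_not_dvd).2 hm).symm
        rcases eq_or_ne t s with rfl | hts
        · obtain ⟨j, hj⟩ := hyt
          rw [Reg, hj] at hyr
          rcases j with _ | j
          · rw [pow_zero, orderOf_eq_one_iff] at hj
            rw [hj]; exact one_mem _
          · rw [Nat.coprime_pow_left_iff j.succ_pos, Nat.coprime_self] at hyr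
            exact absurd hyr ht.ne_one
        · exact hWt ht hts hts y hyW hyt
      exact Subgroup.mem_center_iff.2 fun v => Subtype.ext (Subgroup.mem_center_iff.1 hmem v)
    let T : Sylow s W := default
    haveI : (T : Subgroup W).Normal := (((Group.isNilpotent_of_finite_tfae (G := W)).out 0 3 rfl rfl : Group.IsNilpotent W ↔ ∀ (p : ℕ) (_ : Fact p.Prime) (P : Sylow p W), (P : Subgroup W).Normal).1 inferInstance s inferInstance T)
    haveI : (T : Subgroup W).Characteristic := T.characteristic_of_normal inferInstance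
    have hTK : (T : Subgroup W).map W.subtype ≤ K :=
      Cfsg.Agent.Solv.normal_le_pCore (T.isPGroup'.map _)
    intro w hw
    refine mem_of_pp fun t ht y hy hyt => ?_
    have hyW : y ∈ W := Subgroup.zpowers_le.2 hw hy
    rcases eq_or_ne t s with rfl | hts
    · refine Subgroup.mem_sup_left (hTK ⟨⟨y, hyW⟩, ?_, rfl⟩)
      obtain ⟨j, hj⟩ := hyt
      obtain ⟨T', hT'⟩ := (IsPGroup.of_card (G := Subgroup.zpowers (⟨y, hyW⟩ : W)) (n := j)
        (by rw [Nat.card_zpowers, Subgroup.orderOf_mk, hj])).exists_le_sylow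
      haveI := T.unique_of_normal inferInstance
      rw [Subsingleton.elim T T']
      exact hT' (Subgroup.mem_zpowers _)
    · exact Subgroup.mem_sup_right (hWt ht hts hts y hyW hyt)
  obtain ⟨r, hr, hrq⟩ := InPi.other h2 q
  haveI hrF := Fact.mk hr.1
  have hR1 := H.PA_top h2 hr.2.1 (hfull r hrq) hx
  have hR2 := H.PA_top h2 hr.2.1 (hfull r hrq) hg
  obtain ⟨W1, hW1, hW1c⟩ : ∃ W1, SylIn s W1 W ∧ ∀ w ∈ W1, ∀ y ∈ PA r x, Commute w y := by
    rcases eq_or_ne s q with rfl | hsq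
    · refine ⟨_, (sylIn_top Q).inf_normal le_top (Subgroup.normalizer_eq_top_iff.2 hWn).ge, ?_⟩
      rintro w ⟨hwQ, hwW⟩ y hy
      have hconj : w * y * w⁻¹ ∈ PA r x := by
        rw [← PA_congr (hxn w hwQ), ← H.PA_cj h2 hx hr.1 hr.2.1]
        exact conj_mem_cj hy
      have hdP : y⁻¹ * (w * y * w⁻¹) ∈ PA r x := mul_mem (inv_mem hy) hconj
      have hdW : y⁻¹ * (w * y * w⁻¹) ∈ W := by
        rw [show y⁻¹ * (w * y * w⁻¹) = (y⁻¹ * w * y⁻¹⁻¹) * w⁻¹ by group]
        exact mul_mem (hWn.conj_mem w hwW _) (inv_mem hwW)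
      refine commute_of_conj_mul (hWt hr.1 hr.2.1 hrq _ hdW ((H.mem_PA h2 hx hr.1 hr.2.1).1 hdP).2)
        (by group) ?_
      obtain ⟨i, hi⟩ := pp_of_isPGroup Q.isPGroup' hwQ
      obtain ⟨j, hj⟩ := ((H.mem_PA h2 hx hr.1 hr.2.1).1 hy).2
      rw [hi, hj]
      exact Nat.Coprime.pow _ _ ((Nat.coprime_primes hq.1 hr.1).2 hrq.symm)
    · refine ⟨_, (H.PA_top h2 hsp (hfull s hsq) hx).inf_normal le_top
        (Subgroup.normalizer_eq_top_iff.2 hWn).ge, ?_⟩
      rintro w ⟨hwP, -⟩ y hy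
      exact H.comm_PA_reg h2 hx hs hsp hwP ((H.mem_PA h2 hx hr.1 hr.2.1).1 hy).1
  have hWgen : W ≤ L ⊔ W1 := by
    rw [← Subgroup.relIndex_eq_one]
    have hd1 : (L ⊔ W1).relIndex W ∣ W1.relIndex W := Subgroup.relIndex_dvd_of_le_left _ le_sup_right
    have hd2 : (L ⊔ W1).relIndex W ∣ L.relIndex W := Subgroup.relIndex_dvd_of_le_left _ le_sup_left
    have hp' : IsPGroup s (W ⧸ L.subgroupOf W) := fun w => by
      obtain ⟨w, rfl⟩ := QuotientGroup.mk_surjective w
      exact ⟨1, by rw [← QuotientGroup.mk_pow, QuotientGroup.eq_one_iff, pow_one]; exact hWs _ w.2⟩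
    obtain ⟨n, hn⟩ := IsPGroup.iff_card.1 hp'
    have hLn : L.relIndex W = s ^ n := by rw [Subgroup.relIndex, Subgroup.index_eq_card]; exact hn
    rw [hLn] at hd2
    exact Nat.eq_one_of_dvd_coprimes (((hs.coprime_iff_not_dvd).2 hW1.not_dvd).pow_left n).symm hd1 hd2
  obtain ⟨h, -, hh⟩ := hR1.conj_eq hR2
  have hW2 : SylIn s (cj W1 h) W := hW1.cj' ((Subgroup.normalizer_eq_top_iff.2 hWn).ge (Subgroup.mem_top h))
  obtain ⟨u, hu, hu2⟩ := hW1.conj_eq hW2
  obtain ⟨l, hl, σ, hσ, rfl⟩ := Subgroup.mem_sup_of_normal_left.1 (hWgen hu)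
  obtain ⟨k, hk, z, hz, rfl⟩ := Subgroup.mem_sup_of_normal_right.1 hl
  rw [← cj_cj, cj_eq_self_of_mem hσ] at hu2
  obtain ⟨w1, hw1, hw1z⟩ : ∃ w ∈ W1, w ∉ Subgroup.center G := by
    by_contra hno
    push Not at hno
    exact hWL (hWgen.trans (sup_le le_rfl (fun w hw => Subgroup.mem_sup_right (hno w hw))))
  have hw1nc : NC p w1 := ⟨pp_reg H.hp hs hsp (pp_of_isPGroup hW1.isPGroup hw1), hw1z⟩
  obtain ⟨y, hyC, hy, hyr⟩ := H.exists_pp_mem hx hr
  have hyP : y ∈ PA r x := (H.mem_PA h2 hx hr.1 hr.2.1).2 ⟨hyC, hyr⟩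
  have hew : C1 x = C1 w1 := (H.eq_of_comm h2 hx hy (mem_C1.1 hyC).symm).trans
    (H.eq_of_comm h2 hy hw1nc (hW1c w1 hw1 y hyP).symm)
  -- the conjugate of `w1` by `k` has the centralizer of `g`
  have hw2mem : k * w1 * k⁻¹ ∈ cj W1 h := by
    rw [← hu2]
    have : k * w1 * k⁻¹ = k * z * w1 * (k * z)⁻¹ := by
      calc k * w1 * k⁻¹ = k * (z * w1 * z⁻¹) * k⁻¹ := by
            rw [← Subgroup.mem_center_iff.1 hz w1, mul_inv_cancel_right]
        _ = _ := by group
    rw [this]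
    exact conj_mem_cj hw1
  obtain ⟨w3, hw3, hw3e⟩ := Subgroup.mem_map.1 hw2mem
  obtain ⟨y2, hy2C, hy2, hy2r⟩ := H.exists_pp_mem hg hr
  have hy2P : y2 ∈ cj (PA r x) h := hh ▸ (H.mem_PA h2 hg hr.1 hr.2.1).2 ⟨hy2C, hy2r⟩
  obtain ⟨y3, hy3, hy3e⟩ := Subgroup.mem_map.1 hy2P
  have hc2 : Commute (k * w1 * k⁻¹) y2 := by
    rw [← hw3e, ← hy3e]; exact (hW1c w3 hw3 y3 hy3).map _
  have heg : C1 g = cj (C1 x) k := by
    rw [H.eq_of_comm h2 hg hy2 (mem_C1.1 hy2C).symm, ← H.eq_of_comm h2 (hw1nc.conj k) hy2 hc2, C1_conj, hew]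
  have hgKC : g ∈ K ⊔ C1 x := by
    have h1 := heg ▸ self_mem_C1 g
    rw [mem_cj] at h1
    have : g = k * (k⁻¹ * g * k) * k⁻¹ := by group
    rw [this]
    exact mul_mem (mul_mem (Subgroup.mem_sup_left hk) (Subgroup.mem_sup_right h1))
      (inv_mem (Subgroup.mem_sup_left hk))
  -- contradiction by counting
  set Y := PA q x ⊔ Subgroup.zpowers g
  have hYQ : Y ≤ (Q : Subgroup G) := sup_le hXQ (Subgroup.zpowers_le.2 hgQ)
  have hYK : Y ≤ K ⊔ C1 x :=
    sup_le ((H.PA_sylIn h2 hx hqp).le.trans le_sup_right) (Subgroup.zpowers_le.2 hgKC)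
  have hYp : IsPGroup q Y := Q.isPGroup'.to_le hYQ
  obtain ⟨a, ha'⟩ := IsPGroup.iff_card.1 hYp
  have hd : q ^ a ∣ Nat.card K * Nat.card (C1 x) :=
    (ha'.symm.dvd.trans (Subgroup.card_dvd_of_le hYK)).trans (Cfsg.Agent.Solv.card_sup_dvd K (C1 x))
  rw [hkK] at hd
  have hd' : q ^ a ∣ Nat.card (C1 x) :=
    (Nat.Coprime.pow a kK ((Nat.coprime_primes hq.1 H.hp).2 hqp)).dvd_of_dvd_mul_left hd
  have hle : Nat.card Y ≤ Nat.card (PA q x) := by
    rw [ha', H.card_PA h2 hx hqp]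
    exact Nat.pow_le_pow_right hq.1.pos ((hq.1.pow_dvd_iff_le_factorization Nat.card_pos.ne').1 hd')
  exact hgX ((Subgroup.eq_of_le_of_card_ge le_sup_left hle).ge
    (Subgroup.mem_sup_right (Subgroup.mem_zpowers g)))

omit H h2

/-- The statement. -/
theorem main (hp : p.Prime)
    (h : Set.ncard (Set.range fun x : {x : G // (orderOf x).Coprime p} => (ConjClasses.mk (x : G)).carrier.ncard) = 2) :
    (∃ H : Subgroup G, IsMulCommutative H ∧ ¬ p ∣ Nat.card H ∧ ∃ k : ℕ, H.index = p ^ k) ∨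
    (∃ (q : ℕ) (_ : Fact q.Prime) (P : Sylow p G) (Q : Sylow q G) (A : Subgroup G), q ≠ p ∧
        A ≤ Subgroup.center G ∧ Nat.card ↥((P : Subgroup G) ⊔ (Q : Subgroup G)) = Nat.card P * Nat.card Q ∧
        ((P : Subgroup G) ⊔ (Q : Subgroup G)).Normal ∧
        ((P : Subgroup G) ⊔ (Q : Subgroup G)) ⊓ A = ⊥ ∧ ((P : Subgroup G) ⊔ (Q : Subgroup G)) ⊔ A = ⊤) := by
  classical
  obtain ⟨a, b, hab, hs⟩ := Set.ncard_eq_two.1 h
  have hcl : ∀ x : G, Reg p x → (C1 x).index = a ∨ (C1 x).index = b := fun x hx => by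
    have : (ConjClasses.mk x).carrier.ncard ∈ ({a, b} : Set ℕ) := hs ▸ ⟨⟨x, hx⟩, rfl⟩
    rw [Cfsg.Agent.Solv.class_ncard] at this
    simpa using this
  have hc : ∀ x : G, (C1 x).index = 1 ↔ x ∈ Subgroup.center G := fun x => by
    rw [Subgroup.index_eq_one, Subgroup.centralizer_eq_top_iff_subset, Set.singleton_subset_iff,
      SetLike.mem_coe]
  have h1 := hcl 1 reg_one
  rw [(hc 1).2 (one_mem _)] at h1
  have hex : ∃ x : G, NC p x := by
    by_contra hno
    have hall : ∀ x : G, Reg p x → (C1 x).index = 1 := fun x hx => (hc x).2 (by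
      by_contra hz; exact hno ⟨x, hx, hz⟩)
    have hval : ∀ c ∈ ({a, b} : Set ℕ), c = 1 := by
      intro c hc
      rw [← hs] at hc
      obtain ⟨x, rfl⟩ := hc
      show (ConjClasses.mk (x : G)).carrier.ncard = 1
      rw [Cfsg.Agent.Solv.class_ncard]
      exact hall x x.2
    exact hab ((hval a (by simp)).trans (hval b (by simp)).symm)
  have H : Hyp G p := ⟨hp, fun x y hx hy => by
    have hx' : (C1 x).index ≠ 1 := fun e => hx.2 ((hc x).1 e)
    have hy' : (C1 y).index ≠ 1 := fun e => hy.2 ((hc y).1 e)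
    have e : (C1 x).index = (C1 y).index := by
      rcases hcl x hx.1 with e1 | e1 <;> rcases hcl y hy.1 with e2 | e2 <;> omega
    have h1' := (C1 x).card_mul_index
    rw [← (C1 y).card_mul_index, e] at h1'
    exact Nat.eq_of_mul_eq_mul_right (Nat.pos_of_ne_zero Subgroup.index_ne_zero_of_finite) h1', hex⟩
  by_cases h2 : Two G p
  · exact Or.inl (H.complement h2 (H.not_nab h2))
  · exact Or.inr (H.caseA h2)

end Cfsg.Agent.Solv.TwoSizeRegular
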